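import Cfsg.Agent.Lib.Fischer.Relations.Centralizer.Sizes
import Mathlib.Algebra.Order.Chebyshev

/-!
# Counting in the commuting graph of a rank three class

The class size, the valency and the number of common neighbours of two commuting members determine the
counts around a member; a star of commuting members bounds the members outside a neighbourhood from below.
-/

set_option autoImplicit false
set_option linter.unusedSectionVars false

namespace Cfsg.Lib.Fischer.Relations

open Cfsg Cfsg.Lib.Fischer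

variable {G : Type*} [Group G] [Finite G] {D : Set G}

/-- The members outside the neighbourhood of `d`. -/
def far (D : Set G) (d : G) : Set G := {x | x ∈ D ∧ ¬ Commute x d}

/-- Valency and common neighbours, the neighbour itself included. -/
structure Params (D : Set G) (k l : ℕ) : Prop where
  val : ∀ d ∈ D, Nat.card (perp D d) = k
  adj : ∀ d ∈ D, ∀ t ∈ perp D d, Nat.card {u | u ∈ perp D d ∧ Commute t u} = l

variable {k l : ℕ}

theorem card_split {d : G} (hd : d ∈ D) (S : Set G) (hS : S ⊆ D) (hdS : d ∈ S) :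
    S.ncard = 1 + (S ∩ perp D d).ncard + (S ∩ far D d).ncard := by
  have hset : S = insert d ((S ∩ perp D d) ∪ (S ∩ far D d)) := by
    ext x
    simp only [Set.mem_insert_iff, Set.mem_union, Set.mem_inter_iff, mem_perp, far, Set.mem_setOf_eq]
    constructor
    · intro hx
      by_cases h : x = d
      · exact Or.inl h
      by_cases h' : Commute x d
      exacts [Or.inr (Or.inl ⟨hx, hS hx, h, h'.symm⟩), Or.inr (Or.inr ⟨hx, hS hx, h'⟩)]
    · rintro (rfl | h | h)
      exacts [hdS, h.1, h.1]
  conv_lhs => rw [hset]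
  rw [Set.ncard_insert_of_notMem, Set.ncard_union_eq]
  · omega
  · exact Set.disjoint_left.2 fun x h h' => h'.2.2 h.2.2.2.symm
  · rintro (h | h)
    exacts [h.2.2.1 rfl, h.2.2 (Commute.refl d)]

theorem card_class {d : G} (hd : d ∈ D) (P : Params D k l) : D.ncard = 1 + k + Nat.card (far D d) := by
  have h := card_split hd D Set.Subset.rfl hd
  rw [Set.inter_eq_right.2 (fun x hx => hx.1), Set.inter_eq_right.2 (fun x hx => hx.1)] at h
  rw [h, ← Nat.card_coe_set_eq (perp D d), P.val d hd, Nat.card_coe_set_eq]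

/-- A neighbour has `k - l` neighbours outside the neighbourhood. -/
theorem card_far_nbr (P : Params D k l) {d s : G} (hd : d ∈ D) (hs : s ∈ perp D d) :
    Nat.card {x | x ∈ far D d ∧ Commute s x} + l = k := by
  have h := card_split hd (insert s (perp D s)) (Set.insert_subset hs.1 fun x hx => hx.1)
    (Set.mem_insert_of_mem _ ⟨hd, hs.2.1.symm, hs.2.2.symm⟩)
  have hall : ∀ x, x ∈ insert s (perp D s) ↔ x ∈ D ∧ Commute s x := fun x => by
    rw [Set.mem_insert_iff, mem_perp]
    refine ⟨?_, fun h => (em (x = s)).imp id fun e => ⟨h.1, e, h.2⟩⟩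
    rintro (rfl | h)
    exacts [⟨hs.1, Commute.refl _⟩, ⟨h.1, h.2.2⟩]
  have e1 : insert s (perp D s) ∩ perp D d = {u | u ∈ perp D d ∧ Commute s u} :=
    Set.ext fun x => by
      rw [Set.mem_inter_iff, hall]
      exact ⟨fun h => ⟨h.2, h.1.2⟩, fun h => ⟨⟨h.1.1, h.2⟩, h.1⟩⟩
  have e2 : insert s (perp D s) ∩ far D d = {x | x ∈ far D d ∧ Commute s x} :=
    Set.ext fun x => by
      rw [Set.mem_inter_iff, hall]
      exact ⟨fun h => ⟨h.2, h.1.2⟩, fun h => ⟨⟨h.1.1, h.2⟩, h.1⟩⟩
  rw [e1, e2, Set.ncard_insert_of_notMem (fun h => h.2.1 rfl), ← Nat.card_coe_set_eq, ← Nat.card_coe_set_eq,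
    ← Nat.card_coe_set_eq, P.val s hs.1, P.adj d hd s hs] at h
  omega

/-- The number of common neighbours of two non-commuting members, by counting edges. -/
theorem far_mul_common (hF : IsFischer D) (P : Params D k l) {d c : G} (hd : d ∈ D) (hc : c ∈ D)
    (hdc : ¬ Commute d c) : Nat.card (far D d) * Nat.card (common D d c) = k * (k - l) := by
  classical
  have hD := hF.toTrans
  obtain ⟨Pf, hPf⟩ : ∃ Pf : Finset G, Pf = (perp D d).toFinite.toFinset := ⟨_, rfl⟩
  obtain ⟨Ff, hFf⟩ : ∃ Ff : Finset G, Ff = (far D d).toFinite.toFinset := ⟨_, rfl⟩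
  have h1 : ∀ s ∈ Pf, (Finset.bipartiteAbove (fun s x => Commute s x) Ff s).card = k - l := fun s hs => by
    rw [hPf, Set.Finite.mem_toFinset] at hs
    rw [← Nat.eq_sub_of_add_eq (card_far_nbr P hd hs), ← Nat.card_eq_finsetCard]
    exact Nat.card_congr (Equiv.subtypeEquivRight fun x => by simp [hFf, Finset.bipartiteAbove])
  have h2 : ∀ x ∈ Ff, (Finset.bipartiteBelow (fun s x => Commute s x) Pf x).card =
      Nat.card (common D d c) := fun x hx => by
    rw [hFf, Set.Finite.mem_toFinset] at hx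
    obtain ⟨g, hg, he⟩ := orb_all hF hd hc hx.1 hdc fun h => hx.2 h.symm
    have hgd : g * d * g⁻¹ = d := by rw [(commute_of_mem_closure hF hd hg).eq, mul_inv_cancel_right]
    rw [← Nat.card_eq_finsetCard]
    refine (Nat.card_congr ((MulAut.conj g).toEquiv.subtypeEquiv fun s => ?_)).symm
    simp only [Finset.bipartiteBelow, Finset.mem_filter, hPf, Set.Finite.mem_toFinset, MulEquiv.toEquiv_eq_coe,
      MulEquiv.coe_toEquiv, MulAut.conj_apply]
    show s ∈ perp D d ∧ Commute c s ↔ g * s * g⁻¹ ∈ perp D d ∧ Commute (g * s * g⁻¹) x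
    rw [← he, Commute.conj_iff]
    conv_rhs => rw [← hgd, mem_perp_conj hD]
    simp [mul_assoc, Commute.symm_iff]
  have h := Finset.card_mul_eq_card_mul (fun s x => Commute s x) h1 h2
  rw [hPf, hFf, ← Set.ncard_eq_toFinset_card _, ← Set.ncard_eq_toFinset_card _, ← Nat.card_coe_set_eq,
    ← Nat.card_coe_set_eq, P.val d hd] at h
  exact h.symm

/-- All non-commuting pairs have equally many common neighbours. -/
theorem common_unique (hF : IsFischer D) (P : Params D k l) {d c d' c' : G} (hd : d ∈ D) (hc : c ∈ D)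
    (hdc : ¬ Commute d c) (hd' : d' ∈ D) (hc' : c' ∈ D) (hdc' : ¬ Commute d' c') :
    Nat.card (common D d c) = Nat.card (common D d' c') := by
  have h := far_mul_common hF P hd hc hdc
  rw [← far_mul_common hF P hd' hc' hdc'] at h
  have e : Nat.card (far D d) = Nat.card (far D d') := by
    have := card_class hd P
    rw [card_class hd' P] at this
    omega
  rw [e] at h
  haveI : Nonempty (far D d') := ⟨⟨c', hc', fun h => hdc' h.symm⟩⟩
  exact Nat.eq_of_mul_eq_mul_left Nat.card_pos h

/-- Members commuting with two commuting members. -/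
theorem card_both_commute (P : Params D k l) {s t : G} (hs : s ∈ D) (ht : t ∈ perp D s) :
    {x | x ∈ D ∧ Commute s x ∧ Commute t x}.ncard = 1 + l := by
  have hset : {x | x ∈ D ∧ Commute s x ∧ Commute t x} = insert s {u | u ∈ perp D s ∧ Commute t u} := by
    ext x
    simp only [Set.mem_setOf_eq, Set.mem_insert_iff, mem_perp]
    constructor
    · exact fun h => (em (x = s)).imp id fun e => ⟨⟨h.1, e, h.2.1⟩, h.2.2⟩
    · rintro (rfl | h)
      exacts [⟨hs, Commute.refl _, ht.2.2.symm⟩, ⟨h.1.1, h.1.2.2, h.2⟩]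
  rw [hset, Set.ncard_insert_of_notMem (fun h => h.1.2.1 rfl), ← Nat.card_coe_set_eq, P.adj s hs t ht]
  omega

/-- Members commuting with two non-commuting members. -/
theorem card_both_noncommute {s t : G} (h : ¬ Commute s t) :
    {x | x ∈ D ∧ Commute s x ∧ Commute t x} = common D s t := by
  ext x
  exact ⟨fun hx => ⟨⟨hx.1, fun e => h (e ▸ hx.2.2).symm, hx.2.1⟩, hx.2.2⟩, fun hx => ⟨hx.1.1, hx.1.2.2, hx.2⟩⟩

theorem sum_pair_le {α : Type*} [DecidableEq α] (S : Finset α) (c : α → α → Prop) [DecidableRel c] {s : α}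
    (hs : s ∈ S) (h : α → ℕ) {f g ν : ℕ} (hf : h s = f) (hg : ∀ t ∈ S, t ≠ s → c s t → h t = g)
    (hν : ∀ t ∈ S, t ≠ s → ¬ c s t → h t = ν) :
    ∑ t ∈ S, h t = f + ((S.erase s).filter (c s)).card * g +
      ((S.erase s).filter fun t => ¬ c s t).card * ν := by
  rw [← Finset.add_sum_erase S h hs, hf, ← Finset.sum_filter_add_sum_filter_not (S.erase s) (c s), ← add_assoc]
  congr 1
  · congr 1
    rw [Finset.sum_const_nat]
    intro t ht
    rw [Finset.mem_filter, Finset.mem_erase] at ht
    exact hg t ht.1.2 ht.1.1 ht.2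
  · rw [Finset.sum_const_nat]
    intro t ht
    rw [Finset.mem_filter, Finset.mem_erase] at ht
    exact hν t ht.1.2 ht.1.1 ht.2

/-- A star of `n` members around `a₀`, each commuting with `l` others of the star, against a set `F`. -/
theorem star_bound (S F : Finset G) {a₀ : G} (ha₀ : a₀ ∈ S) {n l f g ν : ℕ} (hS : S.card = n + 1)
    (hf : ∀ s ∈ S, Nat.card {x | x ∈ F ∧ Commute s x} = f)
    (hg : ∀ s ∈ S, ∀ t ∈ S, t ≠ s → Commute s t → Nat.card {x | x ∈ F ∧ Commute s x ∧ Commute t x} = g)
    (hν : ∀ s ∈ S, ∀ t ∈ S, t ≠ s → ¬ Commute s t → Nat.card {x | x ∈ F ∧ Commute s x ∧ Commute t x} = ν)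
    (hstar : ∀ t ∈ S, Commute a₀ t)
    (hl : ∀ s ∈ S, s ≠ a₀ → Nat.card {t | t ∈ S ∧ t ≠ s ∧ Commute s t} = l) :
    ((n + 1) * f) ^ 2 ≤ F.card * ((n + 1) * f + (n + n * l) * g + n * (n - l) * ν) := by
  classical
  have hset : ∀ (T : Finset G) (p : G → Prop) (_ : DecidablePred p), (T.filter p).card = Nat.card {x | x ∈ T ∧ p x} :=
    fun T p _ => by
      rw [← Nat.card_eq_finsetCard]
      exact Nat.card_congr (Equiv.subtypeEquivRight fun x => by simp)
  obtain ⟨κ, hκ⟩ : ∃ κ : G → ℕ, ∀ x, κ x = (Finset.bipartiteBelow (fun s x => Commute s x) S x).card :=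
    ⟨_, fun _ => rfl⟩
  have h1 : ∑ x ∈ F, κ x = (n + 1) * f := by
    simp only [hκ, ← Finset.sum_card_bipartiteAbove_eq_sum_card_bipartiteBelow]
    rw [Finset.sum_const_nat (m := f) fun s hs => ?_, hS]
    rw [Finset.bipartiteAbove, hset]
    exact hf s hs
  have h2 : ∑ x ∈ F, κ x ^ 2 = ∑ s ∈ S, ∑ t ∈ S, Nat.card {x | x ∈ F ∧ Commute s x ∧ Commute t x} := by
    have e : ∀ x, κ x ^ 2 = (Finset.bipartiteBelow (fun (p : G × G) x => Commute p.1 x ∧ Commute p.2 x)
        (S ×ˢ S) x).card := fun x => by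
      rw [hκ, pow_two, ← Finset.card_product]
      congr 1
      ext p
      simp only [Finset.bipartiteBelow, Finset.mem_product, Finset.mem_filter]
      tauto
    simp only [e, ← Finset.sum_card_bipartiteAbove_eq_sum_card_bipartiteBelow]
    rw [Finset.sum_product]
    refine Finset.sum_congr rfl fun s _ => Finset.sum_congr rfl fun t _ => ?_
    rw [Finset.bipartiteAbove, hset]
  have hrow : ∀ s ∈ S, ∑ t ∈ S, Nat.card {x | x ∈ F ∧ Commute s x ∧ Commute t x} =
      f + ((S.erase s).filter (Commute s)).card * g + ((S.erase s).filter fun t => ¬ Commute s t).card * ν :=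
    fun s hs => sum_pair_le S Commute hs _ (by simp only [and_self]; exact hf s hs) (hg s hs) (hν s hs)
  have hcount : ∀ s ∈ S, ((S.erase s).filter (Commute s)).card + ((S.erase s).filter fun t => ¬ Commute s t).card = n :=
    fun s hs => by
      rw [Finset.card_filter_add_card_filter_not, Finset.card_erase_of_mem hs, hS]
      omega
  have hc₀ : ((S.erase a₀).filter (Commute a₀)).card = n := by
    rw [Finset.filter_true_of_mem fun t ht => hstar t (Finset.mem_of_mem_erase ht), Finset.card_erase_of_mem ha₀, hS]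
    rfl
  have hcl : ∀ s ∈ S, s ≠ a₀ → ((S.erase s).filter (Commute s)).card = l := fun s hs hne => by
    rw [hset, ← hl s hs hne]
    exact Nat.card_congr (Equiv.subtypeEquivRight fun x => by simp [Finset.mem_erase]; tauto)
  have h3 : ∑ s ∈ S, ∑ t ∈ S, Nat.card {x | x ∈ F ∧ Commute s x ∧ Commute t x} =
      (n + 1) * f + (n + n * l) * g + n * (n - l) * ν := by
    rw [Finset.sum_congr rfl hrow, ← Finset.add_sum_erase S _ ha₀, hc₀,
      show ((S.erase a₀).filter fun t => ¬ Commute a₀ t).card = 0 by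
        have := hcount a₀ ha₀; omega,
      Finset.sum_const_nat (m := f + l * g + (n - l) * ν) fun s hs => ?_, Finset.card_erase_of_mem ha₀, hS,
      Nat.add_sub_cancel]
    · ring
    · rw [Finset.mem_erase] at hs
      have := hcount s hs.2
      rw [hcl s hs.2 hs.1] at this ⊢
      rw [show ((S.erase s).filter fun t => ¬ Commute s t).card = n - l by omega]
  rw [← h3, ← h2, ← h1]
  exact sq_sum_le_card_mul_sum_sq

end Cfsg.Lib.Fischer.Relations
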