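import Cfsg.Agent.Lib.Fischer.Relations.Twenty.Simple
import Cfsg.Agent.Lib.Fischer.Relations.Twenty.Count
import Cfsg.Agent.Lib.Fischer.Relations.Twenty.ReflOrder
import Cfsg.Agent.Lib.Core.Layer

/-!
# The order of a group of type M(23)

The centralizer of two non-commuting members contains a projective reflection group in dimension seven, and a
star of 694 neighbours forces at least 14544 members outside a neighbourhood; together these leave exactly 28160.
-/

set_option autoImplicit false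
set_option linter.unusedSectionVars false

namespace Cfsg.Lib.Fischer.Relations

open Cfsg Cfsg.Lib.Fischer Cfsg.Lib.Linear.Herm Cfsg.Lib.Linear

variable {G : Type*} [Group G] [Finite G] {D : Set G} {d : G}

/-- Parameters are read off at one member. -/
theorem params_of_one (hF : IsFischer D) {k l : ℕ} (hd : d ∈ D) (hk : Nat.card (perp D d) = k)
    (hl : ∀ t ∈ perp D d, Nat.card {u | u ∈ perp D d ∧ Commute t u} = l) : Params D k l := by
  have hD := hF.toTrans
  refine ⟨fun e he => ?_, fun e he t ht => ?_⟩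
  · obtain ⟨g, rfl⟩ := hD.trans d hd e he
    rw [card_perp_conj hD, hk]
  · obtain ⟨g, rfl⟩ := hD.trans d hd e he
    rw [mem_perp_conj hD] at ht
    rw [← hl _ ht]
    refine (Nat.card_congr ((MulAut.conj g).toEquiv.subtypeEquiv fun x => ?_)).symm
    show x ∈ perp D d ∧ Commute (g⁻¹ * t * g) x ↔ g * x * g⁻¹ ∈ perp D (g * d * g⁻¹) ∧ Commute t (g * x * g⁻¹)
    rw [mem_perp_conj hD, ← Commute.conj_iff g, show g * (g⁻¹ * t * g) * g⁻¹ = t by group,
      show g⁻¹ * (g * x * g⁻¹) * g = x by group]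

/-- A set of pairwise commuting members attaining the width. -/
theorem exists_width (D : Set G) :
    ∃ E : Set G, E ⊆ D ∧ (∀ a ∈ E, ∀ b ∈ E, Commute a b) ∧ E.ncard = Cfsg.commutingWidth D := by
  obtain ⟨E, h1, -, h2, h3⟩ := Nat.sSup_mem
    (s := {n : ℕ | ∃ E : Set G, E ⊆ D ∧ E.Finite ∧ (∀ a ∈ E, ∀ b ∈ E, Commute a b) ∧ E.ncard = n})
    ⟨0, ∅, Set.empty_subset _, Set.finite_empty, by simp, Set.ncard_empty _⟩
    ⟨Nat.card G, by
      rintro n ⟨E, -, -, -, rfl⟩
      exact (Set.ncard_le_ncard (Set.subset_univ E)).trans (le_of_eq (Set.ncard_univ G))⟩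
  exact ⟨E, h1, h2, h3⟩

theorem le_width {E : Set G} (hE : E ⊆ D) (hc : ∀ a ∈ E, ∀ b ∈ E, Commute a b) :
    E.ncard ≤ Cfsg.commutingWidth D := by
  refine le_csSup ⟨Nat.card G, ?_⟩ ⟨E, hE, E.toFinite, hc, rfl⟩
  rintro n ⟨A, -, -, -, rfl⟩
  exact (Set.ncard_le_ncard (Set.subset_univ A)).trans (le_of_eq (Set.ncard_univ G))

/-- The width is one more than that of the image of a neighbourhood. -/
theorem width_succ (hF : IsFischer D) (hd : d ∈ D) (hnc : ∀ a ∈ perp D d, ∃ e ∈ perp D d, ¬ Commute a e) :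
    Cfsg.commutingWidth D = Cfsg.commutingWidth (image (perp D d)) + 1 := by
  classical
  have hD := hF.toTrans
  have hsub : ∀ u ∈ perp D d, u ∈ D := fun u hu => hu.1
  obtain ⟨f, hf⟩ : ∃ f : ↥(perp D d) → _, ∀ u, f u = bar u.2 := ⟨fun u => bar u.2, fun _ => rfl⟩
  have hfinj : Function.Injective f := fun u v h => Subtype.ext (bar_inj hD hsub hnc u.2 v.2 (by rwa [← hf, ← hf]))
  refine le_antisymm ?_ ?_
  · obtain ⟨E, hE, hc, hn⟩ := exists_width D
    rw [← hn]
    rcases E.eq_empty_or_nonempty with h | ⟨a, ha⟩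
    · simp [h]
    obtain ⟨g, hg⟩ := hD.trans a (hE ha) d hd
    have hmem : ∀ x ∈ E \ {a}, g * x * g⁻¹ ∈ perp D d := fun x hx => by
      rw [← hg]; exact conj_perp hF g a ⟨hE hx.1, hx.2, hc a ha x hx.1⟩
    obtain ⟨φ, hφ⟩ : ∃ φ : ↥(E \ {a}) → ↥(perp D d), ∀ x, (φ x : G) = g * x * g⁻¹ :=
      ⟨fun x => ⟨_, hmem x x.2⟩, fun _ => rfl⟩
    have hφinj : Function.Injective φ := fun x y h => Subtype.ext (conj_injective (x := g)
      (by show g * (x : G) * g⁻¹ = g * y * g⁻¹; rw [← hφ, ← hφ, h]))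
    have hle : (Set.range (f ∘ φ)).ncard ≤ Cfsg.commutingWidth (image (perp D d)) := by
      refine le_width (Set.range_subset_iff.2 fun x => by rw [Function.comp_apply, hf]; exact bar_mem _) ?_
      rintro _ ⟨x, rfl⟩ _ ⟨y, rfl⟩
      rw [Function.comp_apply, Function.comp_apply, hf, hf]
      refine (bar_commute hD hsub (φ x).2 (φ y).2).2 ?_
      rw [hφ, hφ, Commute.conj_iff]
      exact hc x x.2.1 y y.2.1
    rw [Set.ncard_range_of_injective (hfinj.comp hφinj), Nat.card_coe_set_eq,
      Set.ncard_diff_singleton_of_mem ha] at hle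
    omega
  · obtain ⟨A, hA, hc, hn⟩ := exists_width (image (perp D d))
    rw [← hn]
    have hpre : A = f '' {u | f u ∈ A} := by
      ext y
      refine ⟨fun hy => ?_, fun ⟨u, hu, e⟩ => e ▸ hu⟩
      obtain ⟨a, ha, rfl⟩ := exists_bar (hA hy)
      exact ⟨⟨a, ha⟩, by rw [Set.mem_setOf_eq, hf]; exact hy, by rw [hf]⟩
    rw [hpre, Set.ncard_image_of_injective _ hfinj,
      ← Set.ncard_image_of_injective _ Subtype.val_injective]
    refine le_trans (le_of_eq ?_) (le_width (E := insert d (Subtype.val '' {u | f u ∈ A})) ?_ ?_)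
    · rw [Set.ncard_insert_of_notMem]
      rintro ⟨u, -, e⟩
      exact u.2.2.1 e
    · rintro x (rfl | ⟨u, -, rfl⟩)
      exacts [hd, u.2.1]
    · rintro x (rfl | ⟨u, hu, rfl⟩) y (rfl | ⟨v, hv, rfl⟩)
      · exact Commute.refl _
      · exact v.2.2.2
      · exact u.2.2.2.symm
      · refine (bar_commute hD hsub u.2 v.2).1 ?_
        rw [← hf, ← hf]
        exact hc _ hu _ hv

namespace M23Data

variable (K : M23Data D d)
include K

/-- A subset of the neighbourhood as a subset of its image. -/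
theorem card_bar (p : G → Prop) (q : ↥(Subgroup.closure (perp D d)) ⧸
      Subgroup.center ↥(Subgroup.closure (perp D d)) → Prop)
    (h : ∀ u (hu : u ∈ perp D d), p u ↔ q (bar hu)) :
    Nat.card {u | u ∈ perp D d ∧ p u} = Nat.card {y | y ∈ image (perp D d) ∧ q y} := by
  refine Nat.card_eq_of_bijective (fun u => ⟨bar u.2.1, bar_mem _, (h _ u.2.1).1 u.2.2⟩) ⟨fun u v e => ?_, fun y => ?_⟩
  · exact Subtype.ext (bar_inj K.trans (fun _ hu => hu.1) K.nc u.2.1 v.2.1 (congrArg Subtype.val e))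
  · obtain ⟨u, hu, e⟩ := exists_bar y.2.1
    exact ⟨⟨u, hu, (h u hu).2 (by rw [e]; exact y.2.2)⟩, Subtype.ext e⟩

theorem bar_comm {s t : G} (hs : s ∈ perp D d) (ht : t ∈ perp D d) :
    Commute s t ↔ Commute (bar hs) (bar ht) :=
  (bar_commute K.trans (fun _ h => h.1) hs ht).symm

theorem bar_ne {s t : G} (hs : s ∈ perp D d) (ht : t ∈ perp D d) (h : t ≠ s) : bar ht ≠ bar hs := fun e =>
  h (bar_inj K.trans (fun _ hu => hu.1) K.nc ht hs e)

end M23Data

variable {F : Type} [Field F] [Fintype F] {hF : Fintype.card F = 2 ^ 2} {b : G}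

namespace Coord23

variable (C : Coord23 D d b hF)
include C

theorem img_params : Params (image (perp D d)) 693 181 :=
  params_of_one C.data.imgFis C.co.mem C.co.card_perp fun _ ht => C.co.card_common_perp ht

theorem params : Params D 3510 694 := by
  refine params_of_one C.data.fis C.data.mem ?_ fun t ht => ?_
  · have h := C.data.card_bar (fun _ => True) (fun _ => True) (fun _ _ => Iff.rfl)
    simp only [and_true, Set.setOf_mem_eq] at h
    rw [h, Nat.card_coe_set_eq, (m22_order C.data.imgTrans C.data.imgPrim C.data.img).1]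
  · rw [C.data.card_bar (fun u => Commute t u) (fun y => Commute (bar ht) y) fun u hu => C.data.bar_comm ht hu]
    have hset : {y | y ∈ image (perp D d) ∧ Commute (bar ht) y} =
        insert (bar ht) (perp (image (perp D d)) (bar ht)) := by
      ext y
      simp only [Set.mem_setOf_eq, Set.mem_insert_iff, mem_perp]
      refine ⟨fun h => (em (y = bar ht)).imp id fun e => ⟨h.1, e, h.2⟩, ?_⟩
      rintro (rfl | h)
      exacts [⟨bar_mem ht, Commute.refl _⟩, ⟨h.1, h.2.2⟩]
    rw [hset, Nat.card_coe_set_eq, Set.ncard_insert_of_notMem (fun h => h.2.1 rfl), ← Nat.card_coe_set_eq,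
      C.img_params.val _ (bar_mem ht)]

/-- Neighbours commuting with two commuting neighbours. -/
theorem card_two {s t : G} (hs : s ∈ perp D d) (ht : t ∈ perp D d) (hne : t ≠ s) (hst : Commute s t) :
    Nat.card {u | u ∈ perp D d ∧ (Commute s u ∧ Commute t u)} = 182 := by
  rw [C.data.card_bar (fun u => Commute s u ∧ Commute t u) (fun y => Commute (bar hs) y ∧ Commute (bar ht) y)
    fun u hu => and_congr (C.data.bar_comm hs hu) (C.data.bar_comm ht hu), Nat.card_coe_set_eq,
    card_both_commute C.img_params (bar_mem hs) ⟨bar_mem ht, C.data.bar_ne hs ht hne, (C.data.bar_comm hs ht).1 hst⟩]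

theorem img_far : Nat.card (far (image (perp D d)) (bar C.bmem)) = 2816 := by
  have := card_class C.co.mem C.img_params
  rw [(m22_order C.data.imgTrans C.data.imgPrim C.data.img).1] at this
  omega

/-- Neighbours commuting with two non-commuting neighbours. -/
theorem card_two' {s t : G} (hs : s ∈ perp D d) (ht : t ∈ perp D d) (hst : ¬ Commute s t) :
    Nat.card {u | u ∈ perp D d ∧ (Commute s u ∧ Commute t u)} = 126 := by
  have hst' : ¬ Commute (bar hs) (bar ht) := fun h => hst ((C.data.bar_comm hs ht).2 h)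
  rw [C.data.card_bar (fun u => Commute s u ∧ Commute t u) (fun y => Commute (bar hs) y ∧ Commute (bar ht) y)
    fun u hu => and_congr (C.data.bar_comm hs hu) (C.data.bar_comm ht hu), card_both_noncommute hst']
  obtain ⟨c, hc, hbc⟩ := exists_not_commute C.data.imgFis C.co.mem
  rw [common_unique C.data.imgFis C.img_params (bar_mem hs) (bar_mem ht) hst' C.co.mem hc hbc]
  have h := far_mul_common C.data.imgFis C.img_params C.co.mem hc hbc
  rw [C.img_far] at h
  omega

theorem card_closure : Nat.card ↥(Subgroup.closure (perp D d)) = 129123503308800 := by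
  haveI : Fact (Nat.Prime 2) := ⟨Nat.prime_two⟩
  have hz : Nat.card ↥(Subgroup.center ↥(Subgroup.closure (perp D d))) = 2 := by
    rw [← C.data.fis.set.1 d C.data.mem, ← Nat.card_zpowers, C.center_eq]
    exact Nat.card_congr (Subgroup.subgroupOfEquivOfLe (Subgroup.zpowers_le.2 C.mem_closure)).toEquiv
  rw [Subgroup.card_eq_card_quotient_mul_card_subgroup (Subgroup.center ↥(Subgroup.closure (perp D d))), hz,
    (m22_order C.data.imgTrans C.data.imgPrim C.data.img).2.1]
  norm_num

/-- At least 14544 members lie outside the neighbourhood. -/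
theorem far_lower : 14544 ≤ Nat.card (far D d) := by
  classical
  have hP := C.params
  obtain ⟨S₀, hS₀⟩ : ∃ S₀ : Set G, S₀ = {u | u ∈ perp D d ∧ Commute b u} := ⟨_, rfl⟩
  obtain ⟨S, hS⟩ : ∃ S : Finset G, S = S₀.toFinite.toFinset := ⟨_, rfl⟩
  obtain ⟨Ff, hFf⟩ : ∃ Ff : Finset G, Ff = (far D d).toFinite.toFinset := ⟨_, rfl⟩
  have hmemS : ∀ u, u ∈ S ↔ u ∈ perp D d ∧ Commute b u := fun u => by simp [hS, hS₀]
  have hFmem : ∀ u, u ∈ Ff ↔ u ∈ far D d := fun u => by simp [hFf]
  obtain ⟨c, hc, hdc⟩ := exists_not_commute C.data.fis C.data.mem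
  have hμ := far_mul_common C.data.fis hP C.data.mem hc hdc
  have hsplit : ∀ s t : G, s ∈ perp D d → t ∈ perp D d → {x | x ∈ D ∧ Commute s x ∧ Commute t x}.ncard =
      1 + Nat.card {u | u ∈ perp D d ∧ (Commute s u ∧ Commute t u)} +
        Nat.card {x | x ∈ Ff ∧ Commute s x ∧ Commute t x} := fun s t hs ht => by
    have hset : {x | x ∈ D ∧ Commute s x ∧ Commute t x} ∩ perp D d =
        {u | u ∈ perp D d ∧ (Commute s u ∧ Commute t u)} := by
      ext x
      exact ⟨fun h => ⟨h.2, h.1.2⟩, fun h => ⟨⟨h.1.1, h.2⟩, h.1⟩⟩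
    have hset' : {x | x ∈ D ∧ Commute s x ∧ Commute t x} ∩ far D d =
        {x | x ∈ Ff ∧ Commute s x ∧ Commute t x} := by
      ext x
      simp only [Set.mem_inter_iff, Set.mem_setOf_eq, hFmem]
      exact ⟨fun h => ⟨h.2, h.1.2⟩, fun h => ⟨⟨h.1.1, h.2⟩, h.1⟩⟩
    have h := card_split C.data.mem {x | x ∈ D ∧ Commute s x ∧ Commute t x} (fun x hx => hx.1)
      ⟨C.data.mem, hs.2.2.symm, ht.2.2.symm⟩
    rwa [hset, hset', ← Nat.card_coe_set_eq {u | u ∈ perp D d ∧ _},
      ← Nat.card_coe_set_eq {x | x ∈ Ff ∧ _}] at h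
  have key := star_bound S Ff (a₀ := b) ((hmemS b).2 ⟨C.bmem, Commute.refl _⟩)
    (n := 693) (l := 181) (f := 2816) (g := 512) (ν := Nat.card (common D d c) - 127)
    (by rw [hS, ← Set.ncard_eq_toFinset_card _, ← Nat.card_coe_set_eq, hS₀, hP.adj d C.data.mem b C.bmem])
    (fun s hs => by
      have hs' := ((hmemS s).1 hs).1
      have := card_far_nbr hP C.data.mem hs'
      simp only [hFmem]
      omega)
    (fun s hs t ht hne hst => by
      have hs' := ((hmemS s).1 hs).1
      have ht' := ((hmemS t).1 ht).1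
      have h := hsplit s t hs' ht'
      rw [C.card_two hs' ht' hne hst, card_both_commute hP hs'.1 ⟨ht'.1, hne, hst⟩] at h
      omega)
    (fun s hs t ht _ hst => by
      have hs' := ((hmemS s).1 hs).1
      have ht' := ((hmemS t).1 ht).1
      have h := hsplit s t hs' ht'
      rw [C.card_two' hs' ht' hst, card_both_noncommute hst, ← Nat.card_coe_set_eq,
        common_unique C.data.fis hP hs'.1 ht'.1 hst C.data.mem hc hdc] at h
      omega)
    (fun t ht => ((hmemS t).1 ht).2)
    (fun s hs hne => by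
      obtain ⟨hs', hbs⟩ := (hmemS s).1 hs
      have hset : {u | u ∈ perp D d ∧ (Commute b u ∧ Commute s u)} =
          insert s {t | t ∈ S ∧ t ≠ s ∧ Commute s t} := by
        ext u
        simp only [Set.mem_setOf_eq, Set.mem_insert_iff, hmemS]
        refine ⟨fun h => (em (u = s)).imp id fun e => ⟨⟨h.1, h.2.1⟩, e, h.2.2⟩, ?_⟩
        rintro (rfl | h)
        exacts [⟨hs', hbs, Commute.refl _⟩, ⟨h.1.1, h.1.2, h.2.2⟩]
      have h := C.card_two C.bmem hs' hne hbs
      rw [hset, Nat.card_coe_set_eq, Set.ncard_insert_of_notMem (fun h => h.2.1 rfl), ← Nat.card_coe_set_eq] at h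
      omega)
  -- a common neighbour count of at least 127
  obtain ⟨s, hs, hbs⟩ := exists_not_commute C.data.imgFis C.co.mem
  obtain ⟨t, ht, rfl⟩ := exists_bar hs
  have hbt : ¬ Commute b t := fun h => hbs ((C.data.bar_comm C.bmem ht).1 h)
  have h127 := hsplit b t C.bmem ht
  rw [C.card_two' C.bmem ht hbt, card_both_noncommute hbt, ← Nat.card_coe_set_eq,
    common_unique C.data.fis hP C.bmem.1 ht.1 hbt C.data.mem hc hdc] at h127
  rw [hFf, ← Set.ncard_eq_toFinset_card _, ← Nat.card_coe_set_eq] at key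
  generalize Nat.card (common D d c) = μ at *
  generalize Nat.card (far D d) = N at *
  obtain ⟨ν, rfl⟩ : ∃ ν, μ = ν + 127 := ⟨μ - 127, by omega⟩
  rw [Nat.add_sub_cancel] at key
  have e : N * ((693 + 1) * 2816 + (693 + 693 * 181) * 512 + 693 * (693 - 181) * ν) =
      66530816 * N + 354816 * (N * ν) := by
    norm_num
    ring
  rw [e] at key
  rw [Nat.mul_add] at hμ
  norm_num at key hμ
  omega

/-- The order and the width. -/
theorem main : D.ncard = 31671 ∧ Nat.card G = 2 ^ 18 * 3 ^ 13 * 5 ^ 2 * 7 * 11 * 13 * 17 * 23 ∧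
    Cfsg.commutingWidth D = 23 := by
  have hT := C.data.trans
  obtain ⟨c, hc, hdc, c₃, hc₃, hL⟩ := C.data.refl
  have hK := C.card_closure
  rw [C.centralizer_eq] at hK
  have horbit : Nat.card ↥(Subgroup.centralizer ({d} : Set G)) = Nat.card (far D d) *
      Nat.card ↥(Subgroup.centralizer ({d} : Set G) ⊓ Subgroup.centralizer ({c} : Set G)) := by
    refine card_conj_orbit ⟨hc, fun h => hdc h.symm⟩ (fun k hk y hy => ⟨hT.conj k y hy.1, fun h => hy.2 ?_⟩)
      fun y hy => ?_
    · rw [← Commute.conj_iff k]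
      rwa [show k * d * k⁻¹ = d by rw [Subgroup.mem_centralizer_singleton_iff.1 hk, mul_inv_cancel_right]]
    · obtain ⟨g, hg, he⟩ := orb_all C.data.fis C.data.mem hc hy.1 hdc (fun h => hy.2 h.symm)
      exact ⟨g, Subgroup.mem_centralizer_singleton_iff.2 (commute_of_mem_closure C.data.fis C.data.mem hg).eq, he⟩
  have hdvd : 2 ^ 9 * 3 ^ 9 * 5 * 7 * 13 ∣
      Nat.card ↥(Subgroup.centralizer ({d} : Set G) ⊓ Subgroup.centralizer ({c} : Set G)) := by
    refine (ReflSeven.order_dvd hc₃ hL).trans ((Subgroup.card_quotient_dvd_card _).trans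
      (Subgroup.card_dvd_of_le ((Subgroup.closure_le _).2 ?_)))
    rintro x ⟨⟨-, -, hdx⟩, hcx⟩
    exact ⟨Subgroup.mem_centralizer_singleton_iff.2 hdx.eq.symm,
      Subgroup.mem_centralizer_singleton_iff.2 hcx.eq.symm⟩
  have hlow := C.far_lower
  have hN : Nat.card (far D d) = 28160 := by
    obtain ⟨k, hk⟩ := hdvd
    rw [hK, hk] at horbit
    have hprod : Nat.card (far D d) * k = 28160 := by
      have : 2 ^ 9 * 3 ^ 9 * 5 * 7 * 13 * (Nat.card (far D d) * k) = 2 ^ 9 * 3 ^ 9 * 5 * 7 * 13 * 28160 := by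
        rw [show 2 ^ 9 * 3 ^ 9 * 5 * 7 * 13 * 28160 = 129123503308800 by norm_num, horbit]
        ring
      exact Nat.eq_of_mul_eq_mul_left (by norm_num) this
    rcases k with _ | _ | k
    · simp at hprod
    · simpa using hprod
    · exfalso
      have : Nat.card (far D d) * 2 ≤ Nat.card (far D d) * (k + 1 + 1) := Nat.mul_le_mul_left _ (by omega)
      omega
  have hD : D.ncard = 31671 := by
    rw [card_class C.data.mem C.params, hN]
  refine ⟨hD, ?_, ?_⟩
  · have h := card_conj_orbit (K := (⊤ : Subgroup G)) C.data.mem (fun k _ y hy => hT.conj k y hy)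
      fun y hy => by obtain ⟨g, hg⟩ := hT.trans d C.data.mem y hy; exact ⟨g, Subgroup.mem_top g, hg⟩
    rw [top_inf_eq, hK, Subgroup.card_top, Nat.card_coe_set_eq, hD] at h
    rw [h]
    norm_num
  · rw [width_succ C.data.fis C.data.mem C.data.nc, (m22_order C.data.imgTrans C.data.imgPrim C.data.img).2.2]

end Coord23

/-- Type M(23): simplicity, class size, order, width and centralizers. -/
theorem m23_order (hT : Trans D) (hprim : Cfsg.IsPrimitiveUnderConj D) (h23 : Cfsg.IsOfTypeM23 G D) :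
    IsSimpleGroup G ∧ D.ncard = 31671 ∧ Nat.card G = 2 ^ 18 * 3 ^ 13 * 5 ^ 2 * 7 * 11 * 13 * 17 * 23 ∧
      Cfsg.commutingWidth D = 23 ∧ ∀ e ∈ D, Subgroup.closure (perp D e) = Subgroup.centralizer ({e} : Set G) ∧
        Cfsg.IsQuasisimple ↥(Subgroup.closure (perp D e)) ∧
        Subgroup.center ↥(Subgroup.closure (perp D e)) = (Subgroup.zpowers e).subgroupOf (Subgroup.closure (perp D e)) := by
  obtain ⟨d, K⟩ := m23_data hT hprim h23 fun c hc Q hQ =>
    Dvd.dvd.trans (by norm_num) (ReflSeven.quot_dvd Q hQ hc)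
  obtain ⟨F, _, _, hF, b, ⟨C⟩⟩ := exists_coord23 K
  obtain ⟨h1, h2, h3⟩ := C.main
  refine ⟨C.simple, h1, h2, h3, fun e he => ?_⟩
  obtain ⟨g, rfl⟩ := hT.trans d K.mem e he
  obtain ⟨H', hH'⟩ : ∃ H', H' = Subgroup.closure (perp D (g * d * g⁻¹)) := ⟨_, rfl⟩
  rw [← hH']
  have hmap : (Subgroup.closure (perp D d)).map (MulAut.conj g).toMonoidHom = H' :=
    hH' ▸ map_conj_closure_perp hT g d
  have hmem : ∀ x, x ∈ H' ↔ g⁻¹ * x * g ∈ Subgroup.closure (perp D d) := fun x => by
    rw [← hmap, Subgroup.mem_map]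
    exact ⟨fun ⟨y, hy, e⟩ => e ▸ by simpa [mul_assoc] using hy, fun h => ⟨_, h, by simp [mul_assoc]⟩⟩
  refine ⟨?_, Lib.Core.quasisimple_congr C.quasisimple
    (((Subgroup.closure (perp D d)).equivMapOfInjective _ (MulAut.conj g).injective).trans
      (MulEquiv.subgroupCongr hmap)), ?_⟩
  · ext x
    rw [hmem, C.centralizer_eq, Subgroup.mem_centralizer_singleton_iff, Subgroup.mem_centralizer_singleton_iff,
      ← commute_iff_eq, ← commute_iff_eq, ← Commute.conj_iff g]
    simp [mul_assoc]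
  · ext z
    have hz' : g⁻¹ * (z : G) * g ∈ Subgroup.closure (perp D d) := (hmem z).1 z.2
    have hzc : z ∈ Subgroup.center ↥H' ↔
        (⟨_, hz'⟩ : ↥(Subgroup.closure (perp D d))) ∈ Subgroup.center ↥(Subgroup.closure (perp D d)) := by
      rw [Subgroup.mem_center_iff, Subgroup.mem_center_iff]
      constructor
      · intro h y
        have hy : g * (y : G) * g⁻¹ ∈ H' := (hmem _).2 (by simp [mul_assoc])
        have := congrArg Subtype.val (h ⟨_, hy⟩)
        refine Subtype.ext (conj_injective (x := g) ?_)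
        simpa [mul_assoc] using this
      · intro h y
        have := congrArg Subtype.val (h ⟨_, (hmem y).1 y.2⟩)
        refine Subtype.ext (conj_injective (x := g⁻¹) ?_)
        simpa [mul_assoc] using this
    rw [hzc, C.center_eq, Subgroup.mem_subgroupOf, Subgroup.mem_subgroupOf,
      show g * d * g⁻¹ = MulAut.conj g d from rfl]
    show g⁻¹ * (z : G) * g ∈ Subgroup.zpowers d ↔ _
    rw [Subgroup.mem_zpowers_iff, Subgroup.mem_zpowers_iff]
    refine exists_congr fun k => ?_
    rw [← map_zpow, MulAut.conj_apply]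
    constructor <;> intro h
    · rw [h]; group
    · rw [← h]; group

end Cfsg.Lib.Fischer.Relations
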