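import Cfsg.Agent.Lib.Fischer.Relations.Twenty.Cent

/-!
# Relations between commuting members in type M(23)

No six commuting members have central product, and seven members exist with product one.
-/

set_option autoImplicit false
set_option linter.unusedSectionVars false

namespace Cfsg.Lib.Fischer.Relations

open Module Cfsg Cfsg.Lib.Fischer Cfsg.Lib.Linear.Herm Cfsg.Agent.S1631 Cfsg.Lib.Fischer.RadicalAbelian
open Cfsg.Lib.Linear

variable {G : Type*} [Group G] [Finite G] {D : Set G} {d : G}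
  {F : Type} [Field F] [Fintype F] {hF : Fintype.card F = 2 ^ 2} {b : G}

namespace Coord23

variable (C : Coord23 D d b hF)
include C

theorem noRel : NoRel D 6 :=
  noRel_lift C.data.trans C.data.sep C.data.mem ⟨d, C.data.mem, b, C.bmem.1, C.bmem.2.1.symm⟩
    (noRel_five C.data.imgTrans (fourField hF) (hB_isSymm hF 6) (hB_nondegenerate hF 6)
      (by rw [finrank_fin_fun]; norm_num) C.co.mem C.co.U C.data.imgPrim.2.1)

/-- Seven members with product one. -/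
theorem exists_seven : ∃ L : List G, L.Nodup ∧ L.length = 7 ∧ (∀ x ∈ L, x ∈ D) ∧
    (∀ x ∈ L, ∀ y ∈ L, Commute x y) ∧ L.prod = 1 := by
  classical
  obtain ⟨m, M, hm⟩ := C.exists_lm
  obtain ⟨ω, hω⟩ := Linear.exists_omega (fourField hF) (hB_isSymm hF 6) (hB_nondegenerate hF 6)
  obtain ⟨-, hsurj⟩ := C.six_products hm hω
  obtain ⟨l, hl0, hl⟩ := hsurj d (Or.inl rfl)
  have hω0 : ω ≠ 0 := fun e => hω (by rw [e, map_zero])
  have hω1 : ω ≠ 1 := fun e => hω (by rw [e, map_one])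
  have hsω1 : frob hF ω ≠ 1 := fun e => hω1 ((frob hF).injective (by rw [e, map_one]))
  have hsω0 : frob hF ω ≠ 0 := fun e => hω0 ((frob hF).injective (by rw [e, map_zero]))
  have h1 : ∀ x y : F, (1 : F) ≠ 0 ∨ x ≠ 0 ∨ y ≠ 0 := fun _ _ => Or.inl one_ne_zero
  have hu : (0 : F) ≠ 0 ∨ (1 : F) ≠ 0 ∨ (0 : F) ≠ 0 := Or.inr (Or.inl one_ne_zero)
  have hv : (0 : F) ≠ 0 ∨ (0 : F) ≠ 0 ∨ (1 : F) ≠ 0 := Or.inr (Or.inr one_ne_zero)
  have hinj : ∀ x y x' y' : F, m 1 x y = m 1 x' y' → x = x' ∧ y = y' := fun x y x' y' e => by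
    obtain ⟨j, -, e1, e2, e3⟩ := C.lm_eq hm (h1 x y) (h1 x' y') e
    rw [mul_one] at e1
    rw [← e1, one_mul] at e2 e3
    exact ⟨e2, e3⟩
  have hne1 : ∀ x y : F, m 1 x y ≠ m 0 1 0 := fun x y e => by
    obtain ⟨j, -, e1, -, -⟩ := C.lm_eq hm (h1 x y) hu e
    simp at e1
  have hne2 : ∀ x y : F, m 1 x y ≠ m 0 0 1 := fun x y e => by
    obtain ⟨j, -, e1, -, -⟩ := C.lm_eq hm (h1 x y) hv e
    simp at e1
  have hne3 : m 0 1 0 ≠ m 0 0 1 := fun e => by
    obtain ⟨j, -, -, e2, -⟩ := C.lm_eq hm hu hv e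
    simp at e2
  obtain ⟨P, hP⟩ : ∃ P, P = [m 1 0 0, m 0 1 0, m 0 0 1, m 1 1 l, m 1 ω (l * frob hF ω), m 1 (frob hF ω) (l * ω)] :=
    ⟨_, rfl⟩
  have hmemP : ∀ x ∈ P, ∃ a b' c : F, (a ≠ 0 ∨ b' ≠ 0 ∨ c ≠ 0) ∧ x = m a b' c := by
    intro x hx
    simp only [hP, List.mem_cons, List.not_mem_nil, or_false] at hx
    rcases hx with rfl | rfl | rfl | rfl | rfl | rfl
    exacts [⟨_, _, _, h1 _ _, rfl⟩, ⟨_, _, _, hu, rfl⟩, ⟨_, _, _, hv, rfl⟩, ⟨_, _, _, h1 _ _, rfl⟩,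
      ⟨_, _, _, h1 _ _, rfl⟩, ⟨_, _, _, h1 _ _, rfl⟩]
  have hperp : ∀ x ∈ P, x ∈ perp D d := fun x hx => by
    obtain ⟨a, b', c, h, rfl⟩ := hmemP x hx
    exact (hm a b' c h).choose
  have hnd : P.Nodup := by
    have h100 : ∀ x y : F, x ≠ 0 → m 1 0 0 ≠ m 1 x y := fun x y hx e => hx (hinj _ _ _ _ e).1.symm
    rw [hP]
    simp only [List.nodup_cons, List.mem_cons, List.not_mem_nil, or_false, not_or, List.nodup_nil, and_true]
    exact ⟨⟨hne1 _ _, hne2 _ _, h100 _ _ one_ne_zero, h100 _ _ hω0, h100 _ _ hsω0⟩,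
      ⟨hne3, (hne1 _ _).symm, (hne1 _ _).symm, (hne1 _ _).symm⟩,
      ⟨(hne2 _ _).symm, (hne2 _ _).symm, (hne2 _ _).symm⟩,
      ⟨fun e => hω1 (hinj _ _ _ _ e).1.symm, fun e => hsω1 (hinj _ _ _ _ e).1.symm⟩,
      fun e => hω (hinj _ _ _ _ e).1.symm, not_false⟩
  refine ⟨d :: P, List.nodup_cons.2 ⟨fun h => (hperp d h).2.1 rfl, hnd⟩, by simp [hP], ?_, ?_, ?_⟩
  · intro x hx
    rcases List.mem_cons.1 hx with rfl | h
    exacts [C.data.mem, (hperp x h).1]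
  · intro x hx y hy
    rcases List.mem_cons.1 hx with e | h <;> rcases List.mem_cons.1 hy with e' | h'
    · rw [e, e']
    · rw [e]; exact (hperp y h').2.2
    · rw [e']; exact (hperp x h).2.2.symm
    · obtain ⟨a, b', c, k, rfl⟩ := hmemP x h
      obtain ⟨a', b'', c', k', rfl⟩ := hmemP y h'
      exact C.lm_commute hm k k'
  · have e : P.prod = d := by
      refine Eq.trans ?_ hl
      simp [hP, mul_assoc]
    rw [List.prod_cons, e, mul_self C.data.trans C.data.mem]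

end Coord23

end Cfsg.Lib.Fischer.Relations
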