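import Cfsg.Agent.Lib.Fischer.Relations.Twenty.Lifted

/-!
# The centralizer of a member in type M(23) is its neighbourhood group

An automorphism of the class fixing `d` and `b` fixes the products `d`, `b`, `b * d` of the three hexads, hence the three
hyperovals; so it is linear of determinant one on the twice iterated neighbourhood. Every automorphism of the
class fixing `d` is then conjugation by an element of the neighbourhood group of `d`.
-/

set_option autoImplicit false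
set_option linter.unusedSectionVars false

namespace Cfsg.Lib.Fischer.Relations

open Module Matrix Cfsg Cfsg.Lib.Fischer Cfsg.Lib.Linear.Herm Cfsg.Agent.S1631 Cfsg.Lib.Fischer.RadicalAbelian
open Cfsg.Lib.Linear

variable {G : Type*} [Group G] [Finite G] {D : Set G} {d : G}

namespace M23Data

variable (K : M23Data D d)
include K

theorem conj_mem {g x : G} (hg : Commute g d) (hx : x ∈ perp D d) : g * x * g⁻¹ ∈ perp D d := by
  have h := conj_perp K.fis g d hx
  rwa [hg.eq, mul_inv_cancel_right] at h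

theorem aut_mem {φ : MulAut G} (hφd : φ d = d) (hφD : ∀ x ∈ D, φ x ∈ D) {x : G} (hx : x ∈ perp D d) :
    φ x ∈ perp D d := by
  refine ⟨hφD x hx.1, fun e => hx.2.1 (φ.injective (e.trans hφd.symm)), ?_⟩
  have h := hx.2.2.map φ.toMonoidHom
  rwa [MulEquiv.coe_toMonoidHom, hφd] at h

/-- The automorphism of the image induced by an automorphism of the class fixing `d`. -/
theorem exists_aut {φ : MulAut G} (hφd : φ d = d) (hφD : ∀ x ∈ D, φ x ∈ D) :
    ∃ ψ : MulAut (↥(Subgroup.closure (perp D d)) ⧸ Subgroup.center ↥(Subgroup.closure (perp D d))),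
      ∀ x (hx : x ∈ perp D d), ψ (bar hx) = bar (K.aut_mem hφd hφD hx) := by
  have himg : φ.toMonoidHom '' perp D d = perp D d :=
    Set.eq_of_subset_of_ncard_le (by rintro _ ⟨x, hx, rfl⟩; exact K.aut_mem hφd hφD hx)
      (le_of_eq (Set.ncard_image_of_injective _ φ.injective).symm)
  have hmap : (Subgroup.closure (perp D d)).map φ.toMonoidHom = Subgroup.closure (perp D d) := by
    rw [MonoidHom.map_closure, himg]
  obtain ⟨θ, hθ⟩ : ∃ θ : ↥(Subgroup.closure (perp D d)) ≃* ↥(Subgroup.closure (perp D d)),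
      ∀ x, ((θ x : ↥(Subgroup.closure (perp D d))) : G) = φ (x : G) :=
    ⟨(φ.subgroupMap _).trans (MulEquiv.subgroupCongr hmap), fun x => rfl⟩
  refine ⟨QuotientGroup.congr _ _ θ (AutPSL.map_center θ), fun x hx => ?_⟩
  simp only [bar, QuotientGroup.congr_mk]
  exact congrArg QuotientGroup.mk (Subtype.ext (hθ _))

end M23Data

variable {F : Type} [Field F] [Fintype F] {hF : Fintype.card F = 2 ^ 2}

namespace Coord23

variable {b : G} (C : Coord23 D d b hF)
include C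

/-- An element of the neighbourhood group of `d` centralizing `b` changes the linear part. -/
theorem step {φ : MulAut G} (hφd : φ d = d) (hφD : ∀ x ∈ D, φ x ∈ D) (hφb : φ b = b) {A : ↥(Cfsg.GU 6 F 2)} {τ : F ≃+* F}
    (hA : ∀ x (hx : x ∈ perp D d), bar hx ∈ perp (image (perp D d)) (bar C.bmem) →
      ∃ a : F, a ≠ 0 ∧ C.co.U.c (bar (C.data.aut_mem hφd hφD hx)) = a • (A.1.1.mulVec (τ ∘ C.co.U.c (bar hx))))
    (B : ↥(Cfsg.GU 6 F 2)) (hdet : B.1.1.det = A.1.1.det) :
    ∃ k ∈ Subgroup.closure (perp D d), ∃ (hkd : (MulAut.conj k * φ) d = d)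
      (hkD : ∀ x ∈ D, (MulAut.conj k * φ) x ∈ D), (MulAut.conj k * φ) b = b ∧
      ∀ x (hx : x ∈ perp D d), bar hx ∈ perp (image (perp D d)) (bar C.bmem) →
        ∃ a : F, a ≠ 0 ∧ C.co.U.c (bar (C.data.aut_mem hkd hkD hx)) = a • (B.1.1.mulVec (τ ∘ C.co.U.c (bar hx))) := by
  classical
  have hD := C.data.trans
  have hM : (B * A⁻¹).1.1.det = 1 := by
    show (B.1.1 * (A.1⁻¹).1).det = 1
    rw [Matrix.det_mul, hdet, ← Matrix.det_mul, Units.mul_inv, Matrix.det_one]
  obtain ⟨kb, hkb, hkc⟩ := C.co.real ⟨⟨(B * A⁻¹).1.1, hM⟩, (B * A⁻¹).2⟩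
  obtain ⟨H₀, hH₀⟩ : ∃ H₀ : Subgroup ↥(Subgroup.closure (perp D d)),
      H₀ = (Subgroup.centralizer ({b} : Set G)).subgroupOf (Subgroup.closure (perp D d)) := ⟨_, rfl⟩
  have hle : Subgroup.closure (perp (image (perp D d)) (bar C.bmem)) ≤ H₀.map (QuotientGroup.mk' _) := by
    rw [Subgroup.closure_le]
    intro y hy
    obtain ⟨x, hx, rfl⟩ := exists_bar hy.1
    refine ⟨⟨x, Subgroup.subset_closure hx⟩, ?_, rfl⟩
    rw [hH₀]
    show x ∈ Subgroup.centralizer ({b} : Set G)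
    exact Subgroup.mem_centralizer_singleton_iff.2
      ((bar_commute hD (fun _ h => h.1) C.bmem hx).1 hy.2.2).eq.symm
  obtain ⟨⟨k, hk⟩, hk0, hkeq⟩ := hle hkb
  have hkb' : Commute k b := by
    rw [hH₀] at hk0
    exact Subgroup.mem_centralizer_singleton_iff.1 hk0
  have hkd : (MulAut.conj k * φ) d = d := by
    rw [MulAut.mul_apply, hφd, MulAut.conj_apply, (C.data.commute_of_mem hk).eq, mul_inv_cancel_right]
  have hkD : ∀ x ∈ D, (MulAut.conj k * φ) x ∈ D := fun x hx => by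
    rw [MulAut.mul_apply, MulAut.conj_apply]; exact hD.conj k _ (hφD x hx)
  refine ⟨k, hk, hkd, hkD, by rw [MulAut.mul_apply, hφb, MulAut.conj_apply, hkb'.eq, mul_inv_cancel_right],
    fun x hx hxb => ?_⟩
  have hgx : bar (C.data.aut_mem hφd hφD hx) ∈ perp (image (perp D d)) (bar C.bmem) := by
    refine ⟨bar_mem _, fun e => hxb.2.1 ?_, ?_⟩
    · have e' := bar_inj hD (fun _ h => h.1) C.data.nc (C.data.aut_mem hφd hφD hx) C.bmem e
      have hx' : x = b := φ.injective (e'.trans hφb.symm)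
      subst hx'
      rfl
    · refine (bar_commute hD (fun _ h => h.1) C.bmem _).2 ?_
      have h := ((bar_commute hD (fun _ h => h.1) C.bmem hx).1 hxb.2.2).map φ.toMonoidHom
      rwa [MulEquiv.coe_toMonoidHom, hφb] at h
  have he : bar (C.data.aut_mem hkd hkD hx) = kb * bar (C.data.aut_mem hφd hφD hx) * kb⁻¹ := by
    rw [← hkeq]
    simp only [bar, QuotientGroup.mk'_apply, ← QuotientGroup.mk_inv, ← QuotientGroup.mk_mul]
    refine congrArg QuotientGroup.mk (Subtype.ext ?_)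
    rfl
  obtain ⟨a, ha, ea⟩ := hA x hx hxb
  obtain ⟨a', ha', eb⟩ := hkc _ hgx
  refine ⟨a' * a, mul_ne_zero ha' ha, ?_⟩
  rw [he, eb, ea, AutPSU.act_smul, smul_smul]
  congr 1
  show ((B * A⁻¹).1.1).mulVec (A.1.1.mulVec _) = _
  rw [Matrix.mulVec_mulVec]
  congr 1
  show B.1.1 * (A.1⁻¹).1 * A.1.1 = B.1.1
  rw [Matrix.mul_assoc, Units.inv_mul, Matrix.mul_one]

/-- The linear part of an element centralizing `d` and `b` has determinant one, its field part is trivial. -/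
theorem det_field {φ : MulAut G} (hφd : φ d = d) (hφD : ∀ x ∈ D, φ x ∈ D) (hφb : φ b = b) {A : ↥(Cfsg.GU 6 F 2)} {τ : F ≃+* F}
    (hA : ∀ x (hx : x ∈ perp D d), bar hx ∈ perp (image (perp D d)) (bar C.bmem) →
      ∃ a : F, a ≠ 0 ∧ C.co.U.c (bar (C.data.aut_mem hφd hφD hx)) = a • (A.1.1.mulVec (τ ∘ C.co.U.c (bar hx)))) :
    (∀ x, τ x = x) ∧ A.1.1.det = 1 := by
  classical
  have hK := fourField hF
  have hS := hB_isSymm hF 6
  have hB' := hB_nondegenerate hF 6
  have hD := C.data.trans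
  obtain ⟨μ, hμdef⟩ : ∃ μ, μ = A.1.1.det := ⟨_, rfl⟩
  have hμ0 : μ ≠ 0 := hμdef ▸ ((Matrix.isUnit_iff_isUnit_det _).1 A.1.isUnit).ne_zero
  obtain ⟨n, hn⟩ : ∃ n, n = μ * μ := ⟨_, rfl⟩
  have hn0 : n ≠ 0 := hn ▸ mul_ne_zero hμ0 hμ0
  have hnn : n * n = μ := by rw [hn]; linear_combination μ * hK.cube μ hμ0
  obtain ⟨B, hB, hBdet⟩ := exists_diag hF ![1, 1, 1, 1, n, n] (by intro i; fin_cases i <;> simp [hn0])
  obtain ⟨k, -, hgd, hgD, hgb', hc⟩ := C.step hφd hφD hφb hA B (by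
    rw [hBdet, ← hμdef, Fin.prod_univ_six]
    simp [hnn])
  obtain ⟨φ', hφ'⟩ : ∃ φ', φ' = MulAut.conj k * φ := ⟨_, rfl⟩
  simp only [← hφ'] at hgd hgD hgb' hc
  obtain ⟨m, M, hm⟩ := C.exists_lm
  obtain ⟨ω, hω⟩ := Linear.exists_omega hK hS hB'
  have hω0 : ω ≠ 0 := fun e => hω (by rw [e, map_zero])
  have hω1 : ω ≠ 1 := fun e => hω (by rw [e, map_one])
  have h1 : ∀ x y : F, (1 : F) ≠ 0 ∨ x ≠ 0 ∨ y ≠ 0 := fun _ _ => Or.inl one_ne_zero
  have hconj : ∀ a b' c : F, ∀ (h : a ≠ 0 ∨ b' ≠ 0 ∨ c ≠ 0),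
      φ' (m a b' c) = m (τ a) (τ b') (n * τ c) := by
    intro a b' c h
    have h' : τ a ≠ 0 ∨ τ b' ≠ 0 ∨ n * τ c ≠ 0 := by
      simpa [hn0] using h
    obtain ⟨hp, e1, hp', j, hj, e1c⟩ := hm a b' c h
    obtain ⟨hq, e2, hq', j', hj', e2c⟩ := hm (τ a) (τ b') (n * τ c) h'
    refine bar_inj hD (fun _ hs => hs.1) C.data.nc (C.data.aut_mem hgd hgD hp) hq ?_
    rw [e2]
    obtain ⟨i, -, ei⟩ := hc _ hp (e1 ▸ hp')
    refine (C.co.eq_of_proj hq' ?_ ⟨j', hj', e2c⟩ ⟨i * τ j, ?_⟩).symm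
    · refine ⟨bar_mem _, fun e => hp'.2.1 (e1 ▸ ?_), ?_⟩
      · have e' := bar_inj hD (fun _ hs => hs.1) C.data.nc (C.data.aut_mem hgd hgD hp) C.bmem e
        have hx' : m a b' c = b := φ'.injective (e'.trans hgb'.symm)
        simp only [bar, hx']
      · refine (bar_commute hD (fun _ hs => hs.1) C.bmem _).2 ?_
        have hh := ((bar_commute hD (fun _ hs => hs.1) C.bmem hp).1 (e1 ▸ hp').2.2).map φ'.toMonoidHom
        rwa [MulEquiv.coe_toMonoidHom, hgb'] at hh
    · rw [ei, hB, e1, e1c, show τ ∘ (j • pv a b' c) = τ j • (τ ∘ pv a b' c) by ext t; simp, Matrix.mulVec_smul,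
        diag_mulVec_pv τ _ a b' c 1 1 n rfl rfl rfl rfl rfl rfl, one_mul, one_mul, smul_smul]
  obtain ⟨p, hp⟩ : ∃ p : F → G, ∀ l, p l = m 1 0 0 * (m 0 1 0 * m 0 0 1) *
      [m 1 1 l, m 1 ω (l * frob hF ω), m 1 (frob hF ω) (l * ω)].prod := ⟨_, fun _ => rfl⟩
  obtain ⟨hinj, hsurj⟩ := C.six_products hm hω
  simp only [← hp] at hinj hsurj
  -- the field part permutes `ω` and its conjugate
  have hτω : τ ω = ω ∨ τ ω = frob hF ω := by
    by_cases hid : ∀ x, τ x = x
    · exact Or.inl (hid ω)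
    · push Not at hid
      exact Or.inr (by rw [aut_sq hF hid, hK.sq])
  have hτs : τ (frob hF ω) = frob hF (τ ω) := by rw [hK.sq, map_mul, hK.sq]
  have hn1 : m 0 0 n = m 0 0 1 := by
    obtain ⟨hq, e1, hq', j, hj, ec⟩ := hm 0 0 n (Or.inr (Or.inr hn0))
    obtain ⟨hr, e2, hr', j', -, ec'⟩ := hm 0 0 1 (Or.inr (Or.inr one_ne_zero))
    refine bar_inj hD (fun _ hs => hs.1) C.data.nc hq hr ?_
    rw [e1, e2]
    refine C.co.eq_of_proj hq' hr' ⟨j, hj, ec⟩ ⟨j' * n⁻¹, ?_⟩
    rw [ec']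
    simp [smul_pv, hn0]
  have hmap : ∀ l : F, l ≠ 0 → φ' (p l) = p (n * τ l) := by
    intro l hl
    have e1 := hconj 1 0 0 (h1 _ _)
    have e2 := hconj 0 1 0 (Or.inr (Or.inl one_ne_zero))
    have e3 := hconj 0 0 1 (Or.inr (Or.inr one_ne_zero))
    simp only [map_one, map_zero, mul_zero, mul_one, hn1] at e1 e2 e3
    rw [hp, hp]
    simp only [List.prod_cons, List.prod_nil, mul_one]
    rw [map_mul, map_mul, map_mul, map_mul, map_mul, e1, e2, e3, hconj _ _ _ (h1 1 l),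
      hconj _ _ _ (h1 ω _), hconj _ _ _ (h1 (frob hF ω) _)]
    simp only [map_one, map_mul, hτs, mul_assoc]
    rcases hτω with e | e <;> rw [e]
    rw [hK.invol]
    have hc' : Commute (m 1 (frob hF ω) (n * (τ l * ω))) (m 1 ω (n * (τ l * frob hF ω))) :=
      C.lm_commute hm (h1 _ _) (h1 _ _)
    rw [hc'.eq]
  have hfix : ∀ l : F, l ≠ 0 → n * τ l = l := by
    intro l hl
    have hfixp : φ' (p l) = p l := by
      have hz : p l = d ∨ p l = b ∨ p l = b * d := by
        have hFu : Nat.card Fˣ = 3 := by rw [Nat.card_units, Nat.card_eq_fintype_card, hF]; norm_num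
        obtain ⟨la, hla0, hla⟩ := hsurj d (Or.inl rfl)
        obtain ⟨lb, hlb0, hlb⟩ := hsurj b (Or.inr (Or.inl rfl))
        obtain ⟨lc, hlc0, hlc⟩ := hsurj (b * d) (Or.inr (Or.inr rfl))
        have hdb : d ≠ b := C.bmem.2.1.symm
        have hd1 : d ≠ 1 := ne_one hD C.data.mem
        have hb1 : b ≠ 1 := ne_one hD C.bmem.1
        have hS3 : ({Units.mk0 la hla0, Units.mk0 lb hlb0, Units.mk0 lc hlc0} : Finset Fˣ) = Finset.univ := by
          refine Finset.eq_univ_of_card _ ?_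
          rw [← Nat.card_eq_fintype_card, hFu]
          refine Finset.card_eq_three.2 ⟨_, _, _, fun e => hdb ?_, fun e => hb1 ?_, fun e => hd1 ?_, rfl⟩
          · have e' : la = lb := congrArg Units.val e
            rw [← hla, e', hlb]
          · have e' : la = lc := congrArg Units.val e
            have e2 : d = b * d := (hla.symm.trans (congrArg p e')).trans hlc
            exact mul_eq_right.1 e2.symm
          · have e' : lb = lc := congrArg Units.val e
            have e2 : b = b * d := (hlb.symm.trans (congrArg p e')).trans hlc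
            exact mul_eq_left.1 e2.symm
        have hmem := Finset.mem_univ (Units.mk0 l hl)
        rw [← hS3] at hmem
        simp only [Finset.mem_insert, Finset.mem_singleton, Units.ext_iff, Units.val_mk0] at hmem
        rcases hmem with rfl | rfl | rfl
        exacts [Or.inl hla, Or.inr (Or.inl hlb), Or.inr (Or.inr hlc)]
      rcases hz with e | e | e <;> rw [e]
      · exact hgd
      · exact hgb'
      · rw [map_mul, hgb', hgd]
    rw [hmap l hl] at hfixp
    exact hinj _ (mul_ne_zero hn0 ((map_ne_zero τ).2 hl)) l hl hfixp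
  have hn1' : n = 1 := by simpa using hfix 1 one_ne_zero
  refine ⟨fun x => ?_, by rw [← hμdef, ← hnn, hn1', mul_one]⟩
  by_cases hx : x = 0
  · rw [hx, map_zero]
  · simpa [hn1'] using hfix x hx

/-- The member lies in the group generated by its neighbours. -/
theorem self_mem_closure : d ∈ Subgroup.closure (perp D d) := by
  obtain ⟨m, M, hm⟩ := C.exists_lm
  obtain ⟨ω, hω⟩ := Linear.exists_omega (fourField hF) (hB_isSymm hF 6) (hB_nondegenerate hF 6)
  obtain ⟨-, hsurj⟩ := C.six_products hm hω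
  obtain ⟨l, -, hl⟩ := hsurj d (Or.inl rfl)
  refine (congrArg (· ∈ Subgroup.closure (perp D d)) hl).mp ?_
  have hmm : ∀ a b' c : F, a ≠ 0 ∨ b' ≠ 0 ∨ c ≠ 0 → m a b' c ∈ Subgroup.closure (perp D d) :=
    fun a b' c h => Subgroup.subset_closure (hm a b' c h).choose
  have hl1 : ∀ y z : F, (1 : F) ≠ 0 ∨ y ≠ 0 ∨ z ≠ 0 := fun _ _ => Or.inl one_ne_zero
  refine mul_mem (mul_mem (hmm 1 0 0 (hl1 _ _)) (mul_mem (hmm 0 1 0 (Or.inr (Or.inl one_ne_zero)))
    (hmm 0 0 1 (Or.inr (Or.inr one_ne_zero))))) (list_prod_mem fun x hx => ?_)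
  simp only [List.mem_cons, List.not_mem_nil, or_false] at hx
  rcases hx with rfl | rfl | rfl
  exacts [hmm 1 1 l (hl1 _ _), hmm 1 ω _ (hl1 _ _), hmm 1 (frob hF ω) _ (hl1 _ _)]

/-- An automorphism fixing `d` and all its neighbours comes from the neighbourhood group. -/
theorem inner_of_fix {φ : MulAut G} (hφd : φ d = d) (hφD : ∀ x ∈ D, φ x ∈ D) (hfix : ∀ x ∈ perp D d, φ x = x) :
    ∃ h ∈ Subgroup.closure (perp D d), φ = MulAut.conj h := by
  rcases aut_eq_one_or_conj C.data.fis C.data.prim C.data.trace C.data.mem φ hφD hφd hfix with e | e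
  · exact ⟨1, one_mem _, by rw [e, map_one]⟩
  · exact ⟨d, C.self_mem_closure, e⟩

/-- Every automorphism of the class fixing `d` is conjugation by an element of its neighbourhood group. -/
theorem aut_inner {φ₀ : MulAut G} (hφ₀d : φ₀ d = d) (hφ₀D : ∀ x ∈ D, φ₀ x ∈ D) :
    ∃ h ∈ Subgroup.closure (perp D d), φ₀ = MulAut.conj h := by
  classical
  have hD := C.data.trans
  -- move `b` back
  obtain ⟨h, hh, he⟩ := perp_transitive C.data.fis C.data.mem (C.data.aut_mem hφ₀d hφ₀D C.bmem) C.bmem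
  obtain ⟨φ, hφdef⟩ : ∃ φ, φ = MulAut.conj h * φ₀ := ⟨_, rfl⟩
  have hφd : φ d = d := by
    rw [hφdef, MulAut.mul_apply, hφ₀d, MulAut.conj_apply, (C.data.commute_of_mem hh).eq, mul_inv_cancel_right]
  have hφD : ∀ x ∈ D, φ x ∈ D := fun x hx => by
    rw [hφdef, MulAut.mul_apply, MulAut.conj_apply]; exact hD.conj h _ (hφ₀D x hx)
  have hφb : φ b = b := by rw [hφdef, MulAut.mul_apply, MulAut.conj_apply, he]
  have back : ∀ (ψ : MulAut G) (k : G), k ∈ Subgroup.closure (perp D d) →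
      (∃ u ∈ Subgroup.closure (perp D d), MulAut.conj k * ψ = MulAut.conj u) →
      ∃ u ∈ Subgroup.closure (perp D d), ψ = MulAut.conj u := fun ψ k hk ⟨u, hu, e⟩ =>
    ⟨k⁻¹ * u, mul_mem (inv_mem hk) hu, by rw [map_mul, ← e, map_inv, inv_mul_cancel_left]⟩
  refine back φ₀ h hh ?_
  rw [← hφdef]
  obtain ⟨ψ, hψ⟩ := C.data.exists_aut hφd hφD
  have hψb : ψ (bar C.bmem) = bar C.bmem := by
    rw [hψ _ C.bmem]
    simp only [bar, hφb]
  obtain ⟨A, τ, hA⟩ := C.co.semiAut ψ hψb fun y hy => by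
    obtain ⟨x, hx, rfl⟩ := exists_bar hy
    rw [hψ x hx]
    exact bar_mem _
  have hA' : ∀ x (hx : x ∈ perp D d), bar hx ∈ perp (image (perp D d)) (bar C.bmem) →
      ∃ a : F, a ≠ 0 ∧ C.co.U.c (bar (C.data.aut_mem hφd hφD hx)) = a • (A.1.1.mulVec (τ ∘ C.co.U.c (bar hx))) :=
    fun x hx hxb => by
      obtain ⟨a, ha, ea⟩ := hA _ hxb
      exact ⟨a, ha, by rw [← hψ x hx]; exact ea⟩
  obtain ⟨hτ, hdet⟩ := C.det_field hφd hφD hφb hA'
  obtain ⟨k, hk, hkd, hkD, hkb, hc⟩ := C.step hφd hφD hφb hA' 1 (by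
    rw [hdet]; show (1 : Matrix (Fin 6) (Fin 6) F).det = 1; exact Matrix.det_one)
  refine back φ k hk ?_
  obtain ⟨φ₁, hφ₁⟩ : ∃ φ₁, φ₁ = MulAut.conj k * φ := ⟨_, rfl⟩
  simp only [← hφ₁] at hkd hkD hkb hc ⊢
  obtain ⟨θ, hθ⟩ := C.data.exists_aut hkd hkD
  have hθb : θ (bar C.bmem) = bar C.bmem := by
    rw [hθ _ C.bmem]
    simp only [bar, hkb]
  have hθS : ∀ y ∈ image (perp D d), θ y ∈ image (perp D d) := fun y hy => by
    obtain ⟨x, hx, rfl⟩ := exists_bar hy
    rw [hθ x hx]; exact bar_mem _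
  have hθfix : ∀ y ∈ perp (image (perp D d)) (bar C.bmem), θ y = y := by
    intro y hy
    obtain ⟨x, hx, rfl⟩ := exists_bar hy.1
    rw [hθ x hx]
    obtain ⟨a, -, ea⟩ := hc x hx hy
    refine (C.co.U.inj _ hy _ ?_ a ?_).symm
    · rw [← hθ x hx]
      refine ⟨hθS _ (bar_mem hx), fun e => hy.2.1 (θ.injective (e.trans hθb.symm)), ?_⟩
      have := hy.2.2.map θ.toMonoidHom
      rwa [MulEquiv.coe_toMonoidHom, hθb] at this
    · rw [ea]
      show a • (1 : Matrix (Fin 6) (Fin 6) F).mulVec _ = _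
      rw [Matrix.one_mulVec, show τ ∘ C.co.U.c (bar hx) = C.co.U.c (bar hx) from funext fun i => hτ _]
  rcases aut_eq_one_or_conj C.data.imgFis C.data.imgPrim C.data.imgTrace C.co.mem θ hθS hθb hθfix with e | e
  · refine C.inner_of_fix hkd hkD fun x hx => bar_inj hD (fun _ h => h.1) C.data.nc (C.data.aut_mem hkd hkD hx) hx ?_
    rw [← hθ x hx, e, MulAut.one_apply]
  · refine back φ₁ b C.bmem' (C.inner_of_fix ?_ ?_ fun x hx => ?_)
    · rw [MulAut.mul_apply, hkd, MulAut.conj_apply, C.b_comm.eq, mul_inv_cancel_right]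
    · intro x hx
      rw [MulAut.mul_apply, MulAut.conj_apply]; exact hD.conj b _ (hkD x hx)
    · have hx2 : b * x * b⁻¹ ∈ perp D d := C.data.conj_mem C.b_comm hx
      have e2 : bar (C.data.aut_mem hkd hkD hx) = bar hx2 := by
        rw [← hθ x hx, e, MulAut.conj_apply]
        rfl
      rw [MulAut.mul_apply, MulAut.conj_apply, bar_inj hD (fun _ h => h.1) C.data.nc _ hx2 e2,
        inv_eq hD C.bmem.1]
      simp [mul_assoc, mul_self hD C.bmem.1]
      simp [← mul_assoc, mul_self hD C.bmem.1]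

/-- The centralizer of `d` is the neighbourhood group. -/
theorem centralizer_eq : Subgroup.closure (perp D d) = Subgroup.centralizer ({d} : Set G) := by
  refine le_antisymm C.data.closure_le fun g hg => ?_
  obtain ⟨h, hh, e⟩ := C.aut_inner (φ₀ := MulAut.conj g)
    (by rw [MulAut.conj_apply, (show Commute g d from Subgroup.mem_centralizer_singleton_iff.1 hg).eq,
      mul_inv_cancel_right])
    fun x hx => C.data.trans.conj g x hx
  have hz : h⁻¹ * g ∈ Subgroup.center G := Subgroup.mem_center_iff.2 fun x => by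
    have hx := DFunLike.congr_fun e x
    simp only [MulAut.conj_apply] at hx
    have h1 : h⁻¹ * g * x * (h⁻¹ * g)⁻¹ = x := by
      rw [show h⁻¹ * g * x * (h⁻¹ * g)⁻¹ = h⁻¹ * (g * x * g⁻¹) * h by group, hx]
      group
    exact (mul_inv_eq_iff_eq_mul.1 h1).symm
  rw [C.data.cen, Subgroup.mem_bot, inv_mul_eq_one] at hz
  exact hz ▸ hh

end Coord23

end Cfsg.Lib.Fischer.Relations
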