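import Cfsg.Agent.Lib.Fischer.Relations.M23
import Cfsg.Agent.S1615
import Cfsg.Agent.S5561

/-!
# The neighbourhood class of a class of type M(23) is primitive

Any two non-commuting neighbours of a member have a common commuting neighbour, so the commuting graph of the
image class is connected; its cores vanish, so it is primitive.
-/

set_option autoImplicit false
set_option linter.unusedSectionVars false

namespace Cfsg.Lib.Fischer.Relations

open Cfsg Cfsg.Lib.Fischer

variable {G : Type*} [Group G] [Finite G]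

theorem pCore_quot_center_eq_bot_of (p : ℕ) [Fact p.Prime] (h2 : Cfsg.pCore p G ≤ Subgroup.center G) :
    Cfsg.pCore p (G ⧸ Subgroup.center G) = ⊥ := by
  obtain ⟨M, hM⟩ : ∃ M, M = (Cfsg.pCore p (G ⧸ Subgroup.center G)).comap (QuotientGroup.mk' (Subgroup.center G)) :=
    ⟨_, rfl⟩
  haveI hMn : M.Normal := by rw [hM]; exact Subgroup.Normal.comap inferInstance _
  let f : M →* ↥(Cfsg.pCore p (G ⧸ Subgroup.center G)) :=
    ((QuotientGroup.mk' _).comp M.subtype).codRestrict _ fun m => by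
      have := m.2; simp only [hM, Subgroup.mem_comap] at this; exact this
  haveI := (Lib.Core.pCore_isPGroup p (G ⧸ Subgroup.center G)).isNilpotent
  haveI : Group.IsNilpotent M := Subgroup.isNilpotent_of_ker_le_center f fun m hm => by
    rw [Subgroup.mem_center_iff]
    intro k
    have h := congrArg Subtype.val (MonoidHom.mem_ker.1 hm)
    exact Subtype.ext (Subgroup.mem_center_iff.1 ((QuotientGroup.eq_one_iff (m : G)).1 h) k)
  let P : Sylow p M := default
  haveI hPn : (P : Subgroup M).Normal := Sylow.normal_of_normalizerCondition Group.normalizerCondition_of_isNilpotent P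
  haveI hPc : (P : Subgroup M).Characteristic := Sylow.characteristic_of_normal P hPn
  haveI : ((P : Subgroup M).map M.subtype).Normal := ConjAct.normal_of_characteristic_of_normal
  have hP : (P : Subgroup M).map M.subtype ≤ Subgroup.center G :=
    (Lib.Core.le_pCore' inferInstance (P.2.map _)).trans h2
  rw [eq_bot_iff]
  intro x hx
  obtain ⟨g, rfl⟩ := QuotientGroup.mk'_surjective _ x
  have hgM : g ∈ M := by rw [hM]; exact hx
  rw [Subgroup.mem_bot]
  obtain ⟨k, hk⟩ := Lib.Core.pCore_isPGroup p (G ⧸ Subgroup.center G) ⟨_, hx⟩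
  have h1 : (QuotientGroup.mk' (Subgroup.center G) g) ^ p ^ k = 1 := congrArg Subtype.val hk
  obtain ⟨m, r, hr, hgo⟩ := Nat.exists_eq_pow_mul_and_not_dvd (orderOf_pos g).ne' p (Fact.out : p.Prime).ne_one
  have hgr : g ^ r ∈ Subgroup.center G := by
    refine hP ⟨⟨g, hgM⟩ ^ r, ?_, rfl⟩
    have hz : IsPGroup p (Subgroup.zpowers ((⟨g, hgM⟩ : M) ^ r)) := by
      refine IsPGroup.of_card (n := m) ?_
      rw [Nat.card_zpowers, orderOf_pow' _ (fun e => hr (by simp [e])), ← Subgroup.orderOf_coe, hgo,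
        Nat.gcd_mul_left_left]
      exact Nat.mul_div_cancel _ (Nat.pos_of_ne_zero fun e => hr (by simp [e]))
    obtain ⟨S, hS⟩ := hz.exists_le_sylow
    haveI : Subsingleton (Sylow p M) := (Sylow.unique_of_normal P hPn).instSubsingleton
    rw [Subsingleton.elim S P] at hS
    exact hS (Subgroup.mem_zpowers _)
  have hr' : (QuotientGroup.mk' (Subgroup.center G) g) ^ r = 1 := by
    rw [← map_pow]; exact (QuotientGroup.eq_one_iff _).2 hgr
  have hcop : Nat.Coprime (p ^ k) r :=
    Nat.Coprime.pow_left k ((Fact.out : p.Prime).coprime_iff_not_dvd.2 hr)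
  have := Nat.eq_one_of_dvd_coprimes hcop (orderOf_dvd_of_pow_eq_one h1) (orderOf_dvd_of_pow_eq_one hr')
  exact orderOf_eq_one_iff.1 this

variable {D : Set G}

/-- Two non-commuting members, both fixed by a third, have a further common neighbour. -/
theorem exists_common_perp (hF : IsFischer D) {d c : G} (hd : d ∈ D) (hc : c ∈ D) (hdc : ¬ Commute d c)
    (h5 : 5 ∣ Nat.card ↥(Subgroup.closure (common D d c))) {x a b : G} (hx : x ∈ D) (ha : a ∈ perp D x)
    (hb : b ∈ perp D x) (hab : ¬ Commute a b) : ∃ y ∈ perp D x, Commute a y ∧ Commute b y := by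
  classical
  have hD := hF.toTrans
  obtain ⟨X, hX⟩ : ∃ X, X = common D d c := ⟨_, rfl⟩
  rw [← hX] at h5
  have hXiff : ∀ e, e ∈ X ↔ e ∈ D ∧ e ≠ d ∧ Commute d e ∧ Commute c e := fun e => by
    rw [hX]
    exact ⟨fun h => ⟨h.1.1, h.1.2.1, h.1.2.2, h.2⟩, fun h => ⟨⟨h.1, h.2.1, h.2.2.1⟩, h.2.2.2⟩⟩
  have hXD : ∀ e ∈ X, e ∈ D := fun e he => ((hXiff e).1 he).1
  have hXst : ∀ u ∈ X, ∀ v ∈ X, u * v * u⁻¹ ∈ X := fun u hu v hv => by
    obtain ⟨hu1, -, hu3, hu4⟩ := (hXiff u).1 hu
    obtain ⟨hv1, hv2, hv3, hv4⟩ := (hXiff v).1 hv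
    refine (hXiff _).2 ⟨hD.conj u v hv1, fun e => hv2 ?_, (hu3.mul_right hv3).mul_right hu3.inv_right,
      (hu4.mul_right hv4).mul_right hu4.inv_right⟩
    have := congrArg (fun t => u⁻¹ * t * u) e
    simp only [mul_assoc, inv_mul_cancel_left, inv_mul_cancel, mul_one] at this
    rw [this, hu3.eq, inv_mul_cancel_left]
  have hconjX : ∀ h ∈ Subgroup.closure X, ∀ v ∈ X, h * v * h⁻¹ ∈ X := by
    intro h hh
    induction hh using Subgroup.closure_induction'' with
    | mem u hu => exact hXst u hu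
    | inv_mem u hu => rw [inv_eq hD (hXD u hu)]; exact hXst u hu
    | one => simp
    | mul u v _ _ h1 h2 =>
      intro w hw
      have := h1 _ (h2 w hw)
      simpa [mul_assoc] using this
  -- some two members commute
  have hsome : ∃ u ∈ X, ∃ v ∈ X, u ≠ v ∧ Commute u v := by
    by_contra hno
    push Not at hno
    rcases X.eq_empty_or_nonempty with h | ⟨a₀, ha₀⟩
    · rw [h, Subgroup.closure_empty, Subgroup.card_bot] at h5
      exact absurd (Nat.le_of_dvd one_pos h5) (by norm_num)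
    haveI : Fact (Nat.Prime 3) := ⟨Nat.prime_three⟩
    obtain ⟨s, hs⟩ : ∃ s : ↥(Subgroup.closure X), (s : G) = a₀ := ⟨⟨a₀, Subgroup.subset_closure ha₀⟩, rfl⟩
    have hsX : ∀ t ∈ conjugatesOf s, (t : G) ∈ X := fun t ht => by
      obtain ⟨g, rfl⟩ := isConj_iff.1 (show IsConj s t from ht)
      simpa [hs] using hconjX g g.2 a₀ ha₀
    have hall : ∀ v (hv : v ∈ X), (⟨v, Subgroup.subset_closure hv⟩ : ↥(Subgroup.closure X)) ∈ conjugatesOf s := by
      intro v hv
      rcases eq_or_ne a₀ v with rfl | hne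
      · show IsConj s _
        rw [isConj_iff]
        exact ⟨1, Subtype.ext (by simp [hs])⟩
      · show IsConj s _
        rw [isConj_iff]
        refine ⟨⟨a₀ * v, mul_mem (Subgroup.subset_closure ha₀) (Subgroup.subset_closure hv)⟩, Subtype.ext ?_⟩
        show a₀ * v * (s : G) * (a₀ * v)⁻¹ = v
        have hb := braid hD (hXD v hv) (hXD a₀ ha₀) fun h => hno a₀ ha₀ v hv hne h.symm
        rw [hs, mul_inv_rev, inv_eq hD (hXD v hv), inv_eq hD (hXD a₀ ha₀)]
        calc a₀ * v * a₀ * (v * a₀) = a₀ * cj v a₀ * a₀ := by rw [cj_def]; group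
          _ = v := by rw [hb, ← cj_def, cj_cj hD (hXD a₀ ha₀)]
    have hcore := Cfsg.Agent.S5561.result s
      (orderOf_eq_prime (Subtype.ext (by rw [SubmonoidClass.coe_pow, hs, pow_two, mul_self hD (hXD _ ha₀)]; rfl))
        fun e => ne_one hD (hXD _ ha₀) (hs.symm.trans (congrArg Subtype.val e)))
      (fun u hu v hv => by
        rcases eq_or_ne (u : G) v with h | h
        · exact ⟨0, by rw [pow_zero, orderOf_eq_one_iff]; exact Subtype.ext (by
            rw [Subgroup.coe_mul, h, mul_self hD (hXD _ (hsX v hv))]; rfl)⟩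
        · refine ⟨1, ?_⟩
          have hn := hno _ (hsX u hu) _ (hsX v hv) h
          rw [pow_one]
          refine orderOf_eq_prime (Subtype.ext (by
            rw [SubmonoidClass.coe_pow, Subgroup.coe_mul]
            exact orderOf_mul hD _ _ (hXD _ (hsX u hu)) (hXD _ (hsX v hv)) hn)) fun e => h ?_
          have e' := congrArg Subtype.val e
          simp only [Subgroup.coe_mul, Subgroup.coe_one] at e'
          rw [eq_inv_of_mul_eq_one_left e', inv_eq hD (hXD _ (hsX v hv))])
    obtain ⟨N, hN⟩ : ∃ N, N = Cfsg.pCore 3 ↥(Subgroup.closure X) := ⟨_, rfl⟩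
    haveI : N.Normal := hN ▸ inferInstance
    rw [← hN] at hcore
    have htop : Subgroup.zpowers (QuotientGroup.mk' N s) = ⊤ := by
      rw [eq_top_iff]
      intro q _
      obtain ⟨g, rfl⟩ := QuotientGroup.mk'_surjective N q
      have hle : (⊤ : Subgroup ↥(Subgroup.closure X)) ≤
          (Subgroup.zpowers (QuotientGroup.mk' N s)).comap (QuotientGroup.mk' N) := by
        rw [← Subgroup.closure_closure_coe_preimage (k := X), Subgroup.closure_le]
        intro v hv
        show QuotientGroup.mk' N v ∈ Subgroup.zpowers (QuotientGroup.mk' N s)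
        have h1 : s * v ∈ N := hcore s mem_conjugatesOf_self v (hall (v : G) hv)
        have h2 : QuotientGroup.mk' N (s * v) = 1 := (QuotientGroup.eq_one_iff _).2 h1
        rw [map_mul, mul_eq_one_iff_inv_eq] at h2
        rw [← h2]
        exact inv_mem (Subgroup.mem_zpowers _)
      exact hle (Subgroup.mem_top g)
    have hq : Nat.card (↥(Subgroup.closure X) ⧸ N) ∣ 2 := by
      rw [← Subgroup.card_top (G := ↥(Subgroup.closure X) ⧸ N), ← htop, Nat.card_zpowers]
      refine orderOf_dvd_of_pow_eq_one ?_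
      rw [← map_pow, show s ^ 2 = 1 from Subtype.ext (by
        rw [SubmonoidClass.coe_pow, hs, pow_two, mul_self hD (hXD _ ha₀)]; rfl), map_one]
    obtain ⟨k, hk⟩ := (hN ▸ Lib.Core.pCore_isPGroup 3 ↥(Subgroup.closure X) : IsPGroup 3 N).exists_card_eq
    rw [Subgroup.card_eq_card_quotient_mul_card_subgroup N, hk] at h5
    rcases (Nat.Prime.dvd_mul (by norm_num)).1 h5 with h | h
    · exact absurd (Nat.le_of_dvd (by norm_num) (h.trans hq)) (by norm_num)
    · exact absurd (Nat.Prime.dvd_of_dvd_pow (by norm_num) h) (by norm_num)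
  -- hence each member has a commuting partner
  have hpart : ∀ u ∈ X, ∃ v ∈ X, v ≠ u ∧ Commute u v := by
    intro i hi
    by_contra hno
    push Not at hno
    obtain ⟨u, hu, v, hv, huv, huvc⟩ := hsome
    have hiu : i ≠ u := fun e => hno v hv (fun e' => huv (e.symm.trans e'.symm).symm.symm) (e ▸ huvc)
    have hnu : ¬ Commute i u := hno u hu (Ne.symm hiu)
    have e1 : cj i u = cj u i := braid hD (hXD i hi) (hXD u hu) hnu
    have hz : cj i v ∈ X := by rw [cj_conj hD (hXD i hi)]; exact hXst i hi v hv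
    have hzu : cj i u ∈ X := by rw [cj_conj hD (hXD i hi)]; exact hXst i hi u hu
    -- the member `cj u i` has the partner `cj i v`, so `i` has one as well
    have hc2 : Commute (cj i u) (cj i v) := by
      rw [cj_conj hD (hXD i hi), cj_conj hD (hXD i hi), Commute.conj_iff]; exact huvc
    have hw : cj u (cj i v) ∈ X := by rw [cj_conj hD (hXD u hu)]; exact hXst u hu _ hz
    refine hno _ hw (fun e => huv ?_) ?_
    · have h' : cj i v = cj i u := by rw [← cj_cj hD (hXD u hu) (cj i v), e, ← e1]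
      exact ((cj_inj hD (hXD i hi)).1 h').symm
    · have := (Commute.conj_iff u).2 hc2
      rwa [← cj_conj hD (hXD u hu), ← cj_conj hD (hXD u hu), e1, cj_cj hD (hXD u hu)] at this
  -- transport
  obtain ⟨g₁, hg₁⟩ := hD.trans d hd a ha.1
  have hac : ¬ Commute a (g₁ * c * g₁⁻¹) := by rw [← hg₁, Commute.conj_iff]; exact hdc
  obtain ⟨g₂, hg₂, e2⟩ := orb_all hF ha.1 (hD.conj g₁ c hc) hb.1 hac hab
  have hga : g₂ * g₁ * d * (g₂ * g₁)⁻¹ = a := by
    rw [show g₂ * g₁ * d * (g₂ * g₁)⁻¹ = g₂ * (g₁ * d * g₁⁻¹) * g₂⁻¹ by group, hg₁,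
      (commute_of_mem_closure hF ha.1 hg₂).eq, mul_inv_cancel_right]
  obtain ⟨g, hg⟩ : ∃ g, g = g₂ * g₁ := ⟨_, rfl⟩
  rw [← hg] at hga
  have hgb : g * c * g⁻¹ = b := by rw [hg, ← e2]; group
  have hx0 : g⁻¹ * x * g ∈ X := by
    refine (hXiff _).2 ⟨by simpa using hD.conj g⁻¹ x hx, fun e => ha.2.1 ?_, ?_, ?_⟩
    · rw [← hga, ← e]; group
    · rw [← Commute.conj_iff g, show g * (g⁻¹ * x * g) * g⁻¹ = x by group, hga]; exact ha.2.2.symm
    · rw [← Commute.conj_iff g, show g * (g⁻¹ * x * g) * g⁻¹ = x by group, hgb]; exact hb.2.2.symm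
  obtain ⟨y, hy, hyne, hyc⟩ := hpart _ hx0
  obtain ⟨hy1, -, hy3, hy4⟩ := (hXiff y).1 hy
  refine ⟨g * y * g⁻¹, ⟨hD.conj g y hy1, fun e => hyne ?_, ?_⟩, ?_, ?_⟩
  · rw [← e]; group
  · have := (Commute.conj_iff g).2 hyc
    rwa [show g * (g⁻¹ * x * g) * g⁻¹ = x by group] at this
  · rw [← hga]; exact (Commute.conj_iff g).2 hy3
  · rw [← hgb]; exact (Commute.conj_iff g).2 hy4

/-- The image of a neighbourhood is a primitive class. -/
theorem primitive_image (hF : IsFischer D)
    (hsep : ∀ a ∈ D, ∀ b ∈ D, (∀ e ∈ D, Commute a e ↔ Commute b e) → a = b) {d : G} (hd : d ∈ D)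
    (hcommon : ∀ a ∈ perp D d, ∀ b ∈ perp D d, ¬ Commute a b → ∃ y ∈ perp D d, Commute a y ∧ Commute b y)
    (hZ : Subgroup.center (↥(Subgroup.closure (perp D d)) ⧸ Subgroup.center ↥(Subgroup.closure (perp D d))) = ⊥)
    (hsepE : ∀ a ∈ image (perp D d), ∀ b ∈ image (perp D d),
      (∀ e ∈ image (perp D d), Commute a e ↔ Commute b e) → a = b)
    (hw : ∃ a ∈ perp D d, ∃ b ∈ perp D d, a ≠ b ∧ Commute a b)
    (h3 : Cfsg.pCore 3 ↥(Subgroup.closure (perp D d)) ≤ Subgroup.center ↥(Subgroup.closure (perp D d))) :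
    Trans (image (perp D d)) ∧ Cfsg.IsPrimitiveUnderConj (image (perp D d)) ∧ IsFischer (image (perp D d)) := by
  classical
  haveI : Fact (Nat.Prime 3) := ⟨Nat.prime_three⟩
  have hD := hF.toTrans
  obtain ⟨a₀, ha₀, b₀, hb₀, hne₀, hc₀⟩ := hw
  have hT := trans_image hF hsep hd ⟨a₀, ha₀⟩
  have hnc : ∀ a ∈ perp D d, ∃ e ∈ perp D d, ¬ Commute a e := fun a ha => exists_perp_noncommute hD hsep hd ha
  have hwE : ∃ a ∈ image (perp D d), ∃ b ∈ image (perp D d), a ≠ b ∧ Commute a b :=
    ⟨_, bar_mem ha₀, _, bar_mem hb₀, fun e => hne₀ (bar_inj hD (fun _ h => h.1) hnc ha₀ hb₀ e),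
      (bar_commute hD (fun _ h => h.1) ha₀ hb₀).2 hc₀⟩
  have hne : ∃ a ∈ image (perp D d), ∃ b ∈ image (perp D d), a ≠ b := by
    obtain ⟨a, ha, b, hb, h, -⟩ := hwE; exact ⟨a, ha, b, hb, h⟩
  have h2E : Cfsg.pCore 2 (↥(Subgroup.closure (perp D d)) ⧸ Subgroup.center ↥(Subgroup.closure (perp D d))) ≤
      Subgroup.center _ := by
    intro n hn
    have hfix : ∀ a ∈ image (perp D d), Commute n a := fun a ha => by
      have hb := hT.conj n a ha
      have hm : a * (n * a * n⁻¹) ∈
          Cfsg.pCore 2 (↥(Subgroup.closure (perp D d)) ⧸ Subgroup.center ↥(Subgroup.closure (perp D d))) := by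
        rw [show a * (n * a * n⁻¹) = a * n * a⁻¹ * n⁻¹ by
          rw [inv_eq hT ha]; simp only [mul_assoc]]
        exact mul_mem ((inferInstance : (Cfsg.pCore 2 _).Normal).conj_mem n hn a) (inv_mem hn)
      exact mul_inv_eq_iff_eq_mul.1 (hsepE _ ha _ hb ((sameComm_iff hT ha hb).2 hm)).symm
    have hle : (⊤ : Subgroup _) ≤ Subgroup.centralizer {n} := by
      rw [← hT.gen, Subgroup.closure_le]
      exact fun a ha => Subgroup.mem_centralizer_singleton_iff.2 (hfix a ha).eq.symm
    exact Subgroup.mem_center_iff.2 fun g => Subgroup.mem_centralizer_singleton_iff.1 (hle (Subgroup.mem_top g))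
  have h3E : Cfsg.pCore 3 (↥(Subgroup.closure (perp D d)) ⧸ Subgroup.center ↥(Subgroup.closure (perp D d))) ≤
      Subgroup.center _ := (pCore_quot_center_eq_bot_of 3 h3).le.trans bot_le
  obtain ⟨L, hLn, hL, -, hgf⟩ := exists_quasisimple hT hne h2E h3E
  haveI := hLn
  have hconn : (Cfsg.commutingGraph (image (perp D d))).Connected := by
    haveI : Nonempty ↥(image (perp D d)) := ⟨⟨_, bar_mem ha₀⟩⟩
    have adj : ∀ u v : ↥(image (perp D d)), Commute u.1 v.1 →
        (Cfsg.commutingGraph (image (perp D d))).Reachable u v := fun u v h => by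
      rcases eq_or_ne u v with rfl | hne
      · exact SimpleGraph.Reachable.refl _
      · refine SimpleGraph.Adj.reachable ?_
        rw [Cfsg.commutingGraph, SimpleGraph.fromRel_adj]
        exact ⟨hne, Or.inl h⟩
    refine ⟨fun u v => ?_⟩
    obtain ⟨a, ha, ea⟩ := exists_bar u.2
    obtain ⟨b, hb, eb⟩ := exists_bar v.2
    by_cases hab : Commute a b
    · exact adj u v (ea ▸ eb ▸ (bar_commute hD (fun _ h => h.1) ha hb).2 hab)
    obtain ⟨y, hy, hay, hby⟩ := hcommon a ha b hb hab
    exact (adj u ⟨_, bar_mem hy⟩ (ea ▸ (bar_commute hD (fun _ h => h.1) ha hy).2 hay)).trans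
      (adj ⟨_, bar_mem hy⟩ v (eb ▸ ((bar_commute hD (fun _ h => h.1) hb hy).2 hby).symm))
  have hprim := primitive_of_index hT hne h2E h3E hL hgf (index_le_two_of_connected hT hL hconn)
  exact ⟨hT, hprim, isFischer_of_primitive hT hprim hwE hZ⟩

end Cfsg.Lib.Fischer.Relations
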