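import Cfsg.Agent.Lib.Fischer.Relations.Twenty.Setup

/-!
# Six-member products over a plane of the twice iterated neighbourhood

For a member `d` of a class of type M(23) and a neighbour `b` the three hyperovals through a fixed triple of
a plane lift to six members with products `d`, `b` and `b * d`, one each.
-/

set_option autoImplicit false
set_option linter.unusedSectionVars false

namespace Cfsg.Lib.Fischer.Relations

open Module Cfsg Cfsg.Lib.Fischer Cfsg.Lib.Linear.Herm Cfsg.Agent.S1631 Cfsg.Lib.Fischer.RadicalAbelian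
open Cfsg.Lib.Linear

variable {G : Type*} [Group G] [Finite G] {D : Set G} {d : G}

/-- The map onto the neighbourhood group modulo its centre. -/
abbrev pmk {S : Set G} {x : G} (hx : x ∈ Subgroup.closure S) :
    ↥(Subgroup.closure S) ⧸ Subgroup.center ↥(Subgroup.closure S) := QuotientGroup.mk ⟨x, hx⟩

namespace M23Data

variable (K : M23Data D d)
include K

theorem trans : Trans D := K.fis.toTrans

theorem nc : ∀ a ∈ perp D d, ∃ e ∈ perp D d, ¬ Commute a e := fun _ ha =>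
  exists_perp_noncommute K.trans K.sep K.mem ha

theorem closure_le : Subgroup.closure (perp D d) ≤ Subgroup.centralizer ({d} : Set G) :=
  (Subgroup.closure_le _).2 fun x hx => Subgroup.mem_centralizer_singleton_iff.2 hx.2.2.eq.symm

theorem commute_of_mem {x : G} (hx : x ∈ Subgroup.closure (perp D d)) : Commute x d :=
  Subgroup.mem_centralizer_singleton_iff.1 (K.closure_le hx)

/-- The centre of the neighbourhood group is inside `{1, d}`. -/
theorem eq_of_mk {x y : G} (hx : x ∈ Subgroup.closure (perp D d)) (hy : y ∈ Subgroup.closure (perp D d))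
    (h : pmk hx = pmk hy) : y = x ∨ y = x * d := by
  have hm := QuotientGroup.eq.1 h
  rw [Subgroup.mem_center_iff] at hm
  rcases eq_or_eq_of_trace K.fis K.prim K.trace K.cen K.mem (z := x⁻¹ * y)
    (K.commute_of_mem (mul_mem (inv_mem hx) hy))
    (fun s hs => (congrArg Subtype.val (hm ⟨s, Subgroup.subset_closure hs⟩)).symm) with e | e
  · exact Or.inl (inv_mul_eq_one.1 e).symm
  · exact Or.inr (inv_mul_eq_iff_eq_mul.1 e)

end M23Data

variable {F : Type} [Field F] [Fintype F] {hF : Fintype.card F = 2 ^ 2}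

/-- Coordinates at the image of `b`. -/
structure Coord23 (D : Set G) (d b : G) (hF : Fintype.card F = 2 ^ 2) where
  data : M23Data D d
  bmem : b ∈ perp D d
  co : Coord (image (perp D d)) (bar bmem) hF

theorem exists_coord23 (K : M23Data D d) :
    ∃ (F : Type) (_ : Field F) (_ : Fintype F) (hF : Fintype.card F = 2 ^ 2) (b : G),
      Nonempty (Coord23 D d b hF) := by
  obtain ⟨F, i1, i2, hF, e, ⟨C⟩⟩ := m22_coord K.imgTrans K.imgPrim K.img
  obtain ⟨b, hb, rfl⟩ := exists_bar C.mem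
  exact ⟨F, i1, i2, hF, b, ⟨⟨K, hb, C⟩⟩⟩

namespace Coord23

variable {b : G} (C : Coord23 D d b hF)
include C

theorem bmem' : b ∈ Subgroup.closure (perp D d) := Subgroup.subset_closure C.bmem

theorem b_comm : Commute b d := C.bmem.2.2.symm

/-- Members over the points of the plane. -/
theorem exists_lm : ∃ m M : F → F → F → _, ∀ a b' c, a ≠ 0 ∨ b' ≠ 0 ∨ c ≠ 0 →
    ∃ h : m a b' c ∈ perp D d, bar h = M a b' c ∧
      (M a b' c ∈ perp (image (perp D d)) (bar C.bmem) ∧ ∃ k : F, k ≠ 0 ∧ C.co.U.c (M a b' c) = k • pv a b' c) := by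
  classical
  obtain ⟨M, hM⟩ := C.co.exists_pm
  refine ⟨fun a b' c => if h : a ≠ 0 ∨ b' ≠ 0 ∨ c ≠ 0 then (exists_bar (hM a b' c h).1.1).choose else 1, M,
    fun a b' c h => ?_⟩
  simp only [dif_pos h]
  obtain ⟨h1, h2⟩ := (exists_bar (hM a b' c h).1.1).choose_spec
  exact ⟨h1, h2, hM a b' c h⟩

variable {m : F → F → F → G} {M : F → F → F → ↥(Subgroup.closure (perp D d)) ⧸
    Subgroup.center ↥(Subgroup.closure (perp D d))}
  (hm : ∀ a b' c, a ≠ 0 ∨ b' ≠ 0 ∨ c ≠ 0 → ∃ h : m a b' c ∈ perp D d, bar h = M a b' c ∧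
    (M a b' c ∈ perp (image (perp D d)) (bar C.bmem) ∧ ∃ k : F, k ≠ 0 ∧ C.co.U.c (M a b' c) = k • pv a b' c))
include hm

theorem lm_hM : ∀ a b' c, a ≠ 0 ∨ b' ≠ 0 ∨ c ≠ 0 →
    M a b' c ∈ perp (image (perp D d)) (bar C.bmem) ∧ ∃ k : F, k ≠ 0 ∧ C.co.U.c (M a b' c) = k • pv a b' c :=
  fun a b' c h => (hm a b' c h).choose_spec.2

theorem lm_commute {a b' c a' b'' c' : F} (h : a ≠ 0 ∨ b' ≠ 0 ∨ c ≠ 0) (h' : a' ≠ 0 ∨ b'' ≠ 0 ∨ c' ≠ 0) :
    Commute (m a b' c) (m a' b'' c') := by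
  obtain ⟨h1, e1, -⟩ := hm a b' c h
  obtain ⟨h2, e2, -⟩ := hm a' b'' c' h'
  refine (bar_commute C.data.trans (fun _ hs => hs.1) h1 h2).1 ?_
  rw [e1, e2]
  exact C.co.pm_commute (C.lm_hM hm) h h'

theorem lm_eq {a b' c a' b'' c' : F} (h : a ≠ 0 ∨ b' ≠ 0 ∨ c ≠ 0) (h' : a' ≠ 0 ∨ b'' ≠ 0 ∨ c' ≠ 0)
    (e : m a b' c = m a' b'' c') : ∃ k : F, k ≠ 0 ∧ a = k * a' ∧ b' = k * b'' ∧ c = k * c' := by
  obtain ⟨h1, e1, -⟩ := hm a b' c h
  obtain ⟨h2, e2, -⟩ := hm a' b'' c' h'
  refine C.co.pm_eq (C.lm_hM hm) h h' ?_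
  rw [← e1, ← e2]
  simp only [bar, e]

variable {ω : F} (hω : frob hF ω ≠ ω)
include hω

/-- The six-member products: one each of `d`, `b`, `b * d`. -/
theorem six_products :
    (∀ l : F, l ≠ 0 → ∀ l' : F, l' ≠ 0 →
      m 1 0 0 * (m 0 1 0 * m 0 0 1) * [m 1 1 l, m 1 ω (l * frob hF ω), m 1 (frob hF ω) (l * ω)].prod =
        m 1 0 0 * (m 0 1 0 * m 0 0 1) * [m 1 1 l', m 1 ω (l' * frob hF ω), m 1 (frob hF ω) (l' * ω)].prod → l = l') ∧
    ∀ z, (z = d ∨ z = b ∨ z = b * d) → ∃ l : F, l ≠ 0 ∧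
      m 1 0 0 * (m 0 1 0 * m 0 0 1) * [m 1 1 l, m 1 ω (l * frob hF ω), m 1 (frob hF ω) (l * ω)].prod = z := by
  classical
  have hK := fourField hF
  have hS := hB_isSymm hF 6
  have hB' := hB_nondegenerate hF 6
  have hD := C.data.trans
  have hω0 : ω ≠ 0 := fun e => hω (by rw [e, map_zero])
  have hω1 : ω ≠ 1 := fun e => hω (by rw [e, map_one])
  have hsω1 : frob hF ω ≠ 1 := fun e => hω1 ((frob hF).injective (by rw [e, map_one]))
  have hsω0 : frob hF ω ≠ 0 := fun e => hω0 ((frob hF).injective (by rw [e, map_zero]))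
  have h1 : ∀ x y : F, (1 : F) ≠ 0 ∨ x ≠ 0 ∨ y ≠ 0 := fun _ _ => Or.inl one_ne_zero
  have hu : (0 : F) ≠ 0 ∨ (1 : F) ≠ 0 ∨ (0 : F) ≠ 0 := Or.inr (Or.inl one_ne_zero)
  have hv : (0 : F) ≠ 0 ∨ (0 : F) ≠ 0 ∨ (1 : F) ≠ 0 := Or.inr (Or.inr one_ne_zero)
  -- members of the short lists
  have hinj : ∀ x y x' y' : F, m 1 x y = m 1 x' y' → x = x' ∧ y = y' := fun x y x' y' e => by
    obtain ⟨j, -, e1, e2, e3⟩ := C.lm_eq hm (h1 x y) (h1 x' y') e
    rw [mul_one] at e1
    rw [← e1, one_mul] at e2 e3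
    exact ⟨e2, e3⟩
  have hne1 : ∀ x y : F, m 1 x y ≠ m 0 1 0 := fun x y e => by
    obtain ⟨j, -, e1, -, -⟩ := C.lm_eq hm (h1 x y) hu e
    simp at e1
  have hne2 : ∀ x y : F, m 1 x y ≠ m 0 0 1 := fun x y e => by
    obtain ⟨j, -, e1, -, -⟩ := C.lm_eq hm (h1 x y) hv e
    simp at e1
  have hne3 : m 0 1 0 ≠ m 0 0 1 := fun e => by
    obtain ⟨j, -, -, e2, -⟩ := C.lm_eq hm hu hv e
    simp at e2
  obtain ⟨T, hT⟩ : ∃ T : F → List G, ∀ l, T l = [m 1 1 l, m 1 ω (l * frob hF ω), m 1 (frob hF ω) (l * ω)] :=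
    ⟨_, fun _ => rfl⟩
  obtain ⟨P, hP⟩ : ∃ P, P = [m 1 0 0, m 0 1 0, m 0 0 1] := ⟨_, rfl⟩
  simp only [← hT]
  have hPT : ∀ l, m 1 0 0 * (m 0 1 0 * m 0 0 1) * (T l).prod = (P ++ T l).prod := fun l => by
    rw [List.prod_append, hP]; simp
  simp only [hPT]
  have hmemP : ∀ l, ∀ x ∈ P ++ T l, ∃ a b' c : F, (a ≠ 0 ∨ b' ≠ 0 ∨ c ≠ 0) ∧ x = m a b' c := by
    intro l x hx
    simp only [hP, hT, List.mem_append, List.mem_cons, List.not_mem_nil, or_false] at hx
    rcases hx with (rfl | rfl | rfl) | (rfl | rfl | rfl)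
    exacts [⟨_, _, _, h1 _ _, rfl⟩, ⟨_, _, _, hu, rfl⟩, ⟨_, _, _, hv, rfl⟩, ⟨_, _, _, h1 _ _, rfl⟩,
      ⟨_, _, _, h1 _ _, rfl⟩, ⟨_, _, _, h1 _ _, rfl⟩]
  have hperp : ∀ l, ∀ x ∈ P ++ T l, x ∈ perp D d := fun l x hx => by
    obtain ⟨a, b', c, h, rfl⟩ := hmemP l x hx
    exact (hm a b' c h).choose
  have hcomm : ∀ l l', ∀ x ∈ P ++ T l, ∀ y ∈ P ++ T l', Commute x y := fun l l' x hx y hy => by
    obtain ⟨a, b', c, h, rfl⟩ := hmemP l x hx
    obtain ⟨a', b'', c', h', rfl⟩ := hmemP l' y hy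
    exact C.lm_commute hm h h'
  have hTnd : ∀ l, (T l).Nodup := fun l => by
    rw [hT]
    simp only [List.nodup_cons, List.mem_cons, List.not_mem_nil, or_false, not_or, List.nodup_nil, and_true]
    exact ⟨⟨fun e => hω1 (hinj _ _ _ _ e).1.symm, fun e => hsω1 (hinj _ _ _ _ e).1.symm⟩,
      fun e => hω (hinj _ _ _ _ e).1.symm, not_false⟩
  -- no six members have product one
  have hne : ∃ x ∈ D, ∃ y ∈ D, x ≠ y := ⟨d, C.data.mem, b, C.bmem.1, C.bmem.2.1.symm⟩
  have hneE : ∃ x ∈ image (perp D d), ∃ y ∈ image (perp D d), x ≠ y := C.data.imgPrim.2.1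
  have hno : NoRel D 6 := noRel_lift hD C.data.sep C.data.mem hne
    (noRel_five C.data.imgTrans hK hS hB' (by rw [finrank_fin_fun]; norm_num) C.co.mem C.co.U hneE)
  have hsix : ∀ l : List G, l.length = 6 → l.Nodup → (∀ x ∈ l, x ∈ D) → (∀ x ∈ l, ∀ y ∈ l, Commute x y) →
      l.prod ≠ 1 := fun l hl hnd hmem hc hp => by
    have := hno l hnd hmem hc (fun y _ => hp ▸ Commute.one_left y) hl.le
    simp [this] at hl
  have hPTnd : ∀ l, l ≠ 0 → (P ++ T l).Nodup := by
    intro l hl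
    have h100 : ∀ x y : F, x ≠ 0 → m 1 0 0 ≠ m 1 x y := fun x y hx e => hx (hinj _ _ _ _ e).1.symm
    rw [List.nodup_append]
    refine ⟨?_, hTnd l, ?_⟩
    · simp [hP, hne1 0 0, hne2 0 0, hne3]
    · intro x hx y hy
      simp only [hP, hT, List.mem_cons, List.not_mem_nil, or_false] at hx hy
      rcases hx with rfl | rfl | rfl <;> rcases hy with rfl | rfl | rfl
      exacts [h100 _ _ one_ne_zero, h100 _ _ hω0, h100 _ _ hsω0, (hne1 _ _).symm, (hne1 _ _).symm,
        (hne1 _ _).symm, (hne2 _ _).symm, (hne2 _ _).symm, (hne2 _ _).symm]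
  have hval : ∀ l : F, l ≠ 0 → (P ++ T l).prod = d ∨ (P ++ T l).prod = b ∨ (P ++ T l).prod = b * d := by
    intro l hl
    have hne1' : (P ++ T l).prod ≠ 1 := hsix _ (by simp [hP, hT]) (hPTnd l hl)
      (fun x hx => (hperp l x hx).1) (hcomm l l)
    have hcl : (P ++ T l).prod ∈ Subgroup.closure (perp D d) :=
      list_prod_mem fun x hx => Subgroup.subset_closure (hperp l x hx)
    have himg : pmk hcl = [M 1 0 0, M 0 1 0, M 0 0 1, M 1 1 l, M 1 ω (l * frob hF ω), M 1 (frob hF ω) (l * ω)].prod := by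
      obtain ⟨a1, e1, -⟩ := hm 1 0 0 (h1 _ _)
      obtain ⟨a2, e2, -⟩ := hm 0 1 0 hu
      obtain ⟨a3, e3, -⟩ := hm 0 0 1 hv
      obtain ⟨a4, e4, -⟩ := hm 1 1 l (h1 _ _)
      obtain ⟨a5, e5, -⟩ := hm 1 ω (l * frob hF ω) (h1 _ _)
      obtain ⟨a6, e6, -⟩ := hm 1 (frob hF ω) (l * ω) (h1 _ _)
      simp only [← e1, ← e2, ← e3, ← e4, ← e5, ← e6, List.prod_cons, List.prod_nil, mul_one, bar,
        ← QuotientGroup.mk_mul]
      refine congrArg QuotientGroup.mk (Subtype.ext ?_)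
      simp [hP, hT, mul_assoc]
    rcases C.co.pm_product (C.lm_hM hm) [(1, 0, 0), (0, 1, 0), (0, 0, 1), (1, 1, l), (1, ω, l * frob hF ω),
        (1, frob hF ω, l * ω)] (by simp) (fun x => by
          have e := Linear.hyperoval_act hK hS hB' (w := pv 1 0 0) (z := pv 0 1 0) (u := pv 0 0 1) hω hl x
          simpa [smul_pv, add_pv] using e) with h | h <;>
      simp only [List.map_cons, List.map_nil, ← himg] at h
    · rcases C.data.eq_of_mk (Subgroup.one_mem _) hcl (by rw [h]; exact QuotientGroup.mk_one _) with e | e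
      · exact absurd e hne1'
      · exact Or.inl (by rw [e, one_mul])
    · exact Or.inr (C.data.eq_of_mk C.bmem' hcl h.symm)
  have hTsq : ∀ l, (T l).prod * (T l).prod = 1 := fun l => by
    have hl : ∀ x ∈ T l, x ∈ D ∧ ∀ y ∈ T l, Commute x y := fun x hx =>
      ⟨(hperp l x (List.mem_append_right _ hx)).1,
        fun y hy => hcomm l l x (List.mem_append_right _ hx) y (List.mem_append_right _ hy)⟩
    generalize T l = L at hl
    induction L with
    | nil => simp
    | cons x L ih =>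
      have hxL : Commute x L.prod := Commute.list_prod_right _ _ fun y hy =>
        (hl x (by simp)).2 y (by simp [hy])
      rw [List.prod_cons, mul_assoc, ← mul_assoc L.prod, ← hxL.eq, mul_assoc x L.prod,
        ih fun y hy => ⟨(hl y (by simp [hy])).1, fun z hz => (hl y (by simp [hy])).2 z (by simp [hz])⟩,
        mul_one, mul_self hD (hl x (by simp)).1]
  have hdist : ∀ l, l ≠ 0 → ∀ l', l' ≠ 0 → (P ++ T l).prod = (P ++ T l').prod → l = l' := by
    intro l _ l' _ e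
    by_contra hll
    rw [List.prod_append, List.prod_append] at e
    refine hsix (T l ++ T l') (by simp [hT]) ?_ (fun x hx => ?_) (fun x hx y hy => ?_) ?_
    · rw [List.nodup_append]
      refine ⟨hTnd l, hTnd l', fun x hx y hy exy => ?_⟩
      simp only [hT, List.mem_cons, List.not_mem_nil, or_false] at hx hy
      rcases hx with rfl | rfl | rfl <;> rcases hy with rfl | rfl | rfl <;> obtain ⟨e1, e2⟩ := hinj _ _ _ _ exy
      all_goals first
        | exact hll e2
        | exact hll (mul_right_cancel₀ hsω0 e2)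
        | exact hll (mul_right_cancel₀ hω0 e2)
        | exact hω1 e1 | exact hω1 e1.symm | exact hsω1 e1 | exact hsω1 e1.symm | exact hω e1 | exact hω e1.symm
    · rcases List.mem_append.1 hx with h | h
      exacts [(hperp l x (List.mem_append_right _ h)).1, (hperp l' x (List.mem_append_right _ h)).1]
    · rcases List.mem_append.1 hx with h | h <;> rcases List.mem_append.1 hy with h' | h' <;>
        exact hcomm _ _ x (List.mem_append_right _ h) y (List.mem_append_right _ h')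
    · rw [List.prod_append, ← mul_left_cancel e, hTsq]
  refine ⟨hdist, fun z hz => ?_⟩
  have hFu : Nat.card Fˣ = 3 := by rw [Nat.card_units, Nat.card_eq_fintype_card, hF]; norm_num
  have hsub : (Finset.univ.image fun l : Fˣ => (P ++ T l).prod) ⊆ ({d, b, b * d} : Finset G) := by
    intro y hy
    obtain ⟨l, -, rfl⟩ := Finset.mem_image.1 hy
    simpa using hval l l.ne_zero
  have hcard : ({d, b, b * d} : Finset G).card ≤ (Finset.univ.image fun l : Fˣ => (P ++ T l).prod).card := by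
    rw [Finset.card_image_of_injective _ fun l l' e => Units.ext (hdist l l.ne_zero l' l'.ne_zero e),
      Finset.card_univ, ← Nat.card_eq_fintype_card, hFu]
    exact Finset.card_le_three
  have hz' : z ∈ ({d, b, b * d} : Finset G) := by simpa using hz
  rw [← Finset.eq_of_subset_of_card_le hsub hcard, Finset.mem_image] at hz'
  obtain ⟨l, -, e⟩ := hz'
  exact ⟨l, l.ne_zero, e⟩

end Coord23

end Cfsg.Lib.Fischer.Relations
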