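import Cfsg.Agent.Lib.Fischer.Relations.M22Simple

/-!
# Members with the same trace

In the types considered only the two members `c` and `c ^ d` see all common neighbours of `d` and `c`; this
passes to the next type, and an automorphism fixing a member and its neighbours is trivial or that member.
-/

set_option autoImplicit false
set_option linter.unusedSectionVars false

namespace Cfsg.Lib.Fischer.Relations

open Cfsg Cfsg.Lib.Fischer Cfsg.Lib.Linear.Herm

/-- Two members at most see the common neighbours of a non-commuting pair. -/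
def TraceUnique {G : Type*} [Group G] (D : Set G) : Prop :=
  ∀ d ∈ D, ∀ c ∈ D, ¬ Commute d c → ∀ x ∈ D, ¬ Commute d x → (∀ s ∈ common D d c, Commute x s) →
    x = c ∨ x = cj d c

variable {G : Type*} [Group G] [Finite G] {D : Set G}

theorem traceUnique_m22 {F : Type} [Field F] [Fintype F] {hF : Fintype.card F = 2 ^ 2} (hFD : IsFischer D)
    (hU : ∀ d ∈ D, Nonempty (UData (perp D d) (hB hF 6))) : TraceUnique D := by
  intro d hd c hc hdc x hx hdx h
  rcases eq_or_ne x c with e | hne
  · exact Or.inl e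
  have hD := hFD.toTrans
  have hdx' : ¬ Commute d (cj d c) := fun h => hdc ((commute_cj hD hd).1 (by simpa [cj_self hD hd] using h))
  refine Or.inr (trace_unique hFD hU hd hc hx (cj_mem hD hd hc) hdc hdx hdx' hne
    (fun e => hdc ((cj_eq_self hD hd).1 e)) h fun s hs => ?_)
  exact (hs.1.2.2.mul_left hs.2).mul_left hs.1.2.2

/-- The property passes from the neighbourhood class to the class. -/
theorem TraceUnique.lift (hF : IsFischer D)
    (hsep : ∀ a ∈ D, ∀ b ∈ D, (∀ e ∈ D, Commute a e ↔ Commute b e) → a = b) {d₀ : G} (hd₀ : d₀ ∈ D)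
    (h : TraceUnique (image (perp D d₀))) : TraceUnique D := by
  have hD := hF.toTrans
  intro d hd c hc hdc x hx hdx hs
  obtain ⟨y, hy, hcy⟩ := common_nonempty hF hd hc hdc
  obtain ⟨g, hg⟩ := hD.trans y hy.1 d₀ hd₀
  have hxy : Commute x y := hs y ⟨hy, hcy⟩
  have hmem : ∀ z ∈ D, Commute y z → z ≠ y → g * z * g⁻¹ ∈ perp D d₀ := fun z hz hyz hne => by
    rw [← hg]
    exact conj_perp hF g y ⟨hz, hne, hyz⟩
  have hd' := hmem d hd hy.2.2.symm fun e => hdc (e ▸ hcy.symm)
  have hc' := hmem c hc hcy.symm fun e => hdc (e ▸ hy.2.2)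
  have hx' := hmem x hx hxy.symm fun e => hdx (e ▸ hy.2.2)
  have hnc : ∀ a ∈ perp D d₀, ∃ e ∈ perp D d₀, ¬ Commute a e := fun a ha =>
    exists_perp_noncommute hD hsep hd₀ ha
  have hsub : ∀ z ∈ perp D d₀, z ∈ D := fun z hz => hz.1
  have bc := fun {a b : G} (ha : a ∈ perp D d₀) (hb : b ∈ perp D d₀) => bar_commute hD hsub ha hb
  have hinj := fun {a b : G} (ha : a ∈ perp D d₀) (hb : b ∈ perp D d₀) => bar_inj hD hsub hnc ha hb
  have hcj : g * cj d c * g⁻¹ = cj (g * d * g⁻¹) (g * c * g⁻¹) := by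
    simp [cj_def, mul_assoc]
  rcases h _ (bar_mem hd') _ (bar_mem hc') (fun e => hdc ((Commute.conj_iff g).1 ((bc hd' hc').1 e)))
    _ (bar_mem hx') (fun e => hdx ((Commute.conj_iff g).1 ((bc hd' hx').1 e))) (fun s hs' => by
      obtain ⟨⟨hsI, hsne, hsd⟩, hsc⟩ := hs'
      obtain ⟨t, ht, rfl⟩ := exists_bar hsI
      refine (bc hx' ht).2 ?_
      rw [← Commute.conj_iff g⁻¹]
      simp only [inv_inv, ← mul_assoc, inv_mul_cancel, one_mul, inv_mul_cancel_right]
      refine hs _ ⟨⟨by simpa using hD.conj g⁻¹ t ht.1, fun e => hsne ?_, ?_⟩, ?_⟩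
      · have e' : t = g * d * g⁻¹ := by rw [← e]; group
        subst e'; rfl
      · have := (Commute.conj_iff g⁻¹).2 ((bc hd' ht).1 hsd)
        simpa [mul_assoc] using this
      · have := (Commute.conj_iff g⁻¹).2 ((bc hc' ht).1 hsc)
        simpa [mul_assoc] using this) with e | e
  · exact Or.inl (conj_injective (x := g) (hinj hx' hc' e))
  · refine Or.inr (conj_injective (x := g) ?_)
    have hmem' : cj (g * d * g⁻¹) (g * c * g⁻¹) ∈ perp D d₀ :=
      (cj_mem_perp hD hd₀ (Or.inr hd') hc').1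
    show g * x * g⁻¹ = g * cj d c * g⁻¹
    rw [hcj]
    refine hinj hx' hmem' (e.trans ?_)
    simp only [bar, cj_def]
    rfl

/-- An automorphism fixing a member and all its neighbours is trivial or that member. -/
theorem aut_eq_one_or_conj (hF : IsFischer D) (hprim : Cfsg.IsPrimitiveUnderConj D) (htr : TraceUnique D)
    {d : G} (hd : d ∈ D) (ψ : MulAut G) (hψ : ∀ x ∈ D, ψ x ∈ D) (hψd : ψ d = d)
    (hfix : ∀ y ∈ perp D d, ψ y = y) : ψ = 1 ∨ ψ = MulAut.conj d := by
  classical
  have hD := hF.toTrans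
  have hfix' : ∀ c ∈ D, Commute d c → ψ c = c := fun c hc hdc => by
    rcases eq_or_ne c d with rfl | hne
    exacts [hψd, hfix c ⟨hc, hne, hdc⟩]
  have hext : ∀ φ : MulAut G, (∀ x ∈ D, ψ x = φ x) → ψ = φ := fun φ h => by
    refine MulEquiv.ext fun x => ?_
    have hle : Subgroup.closure D ≤ MonoidHom.eqLocus ψ.toMonoidHom φ.toMonoidHom :=
      (Subgroup.closure_le _).2 fun e he => h e he
    exact hle (hD.gen ▸ Subgroup.mem_top x)
  by_cases hex : ∃ c ∈ D, ¬ Commute d c ∧ ψ c = c
  · obtain ⟨c, hc, hdc, hψc⟩ := hex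
    refine Or.inl (hext 1 ?_)
    obtain ⟨a, ha, hne, hda⟩ := exists_perp hF hd
    obtain ⟨K, hK⟩ : ∃ K, K = Subgroup.closure {x | x ∈ D ∧ ψ x = x} := ⟨_, rfl⟩
    have hKD : Cfsg.IsDSubgroup D K := hK ▸
      le_antisymm ((Subgroup.closure_le _).2 fun x hx => hx.2)
        (Subgroup.closure_mono fun x hx => ⟨hx.1, Subgroup.subset_closure hx⟩)
    rcases closure_maximal hD hprim ⟨d, hd, a, ha, hne.symm, hda⟩ hd K hKD
      (hK ▸ Subgroup.closure_mono fun x hx => ⟨hx.1, hfix' x hx.1 hx.2⟩) with h | h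
    · exfalso
      have hle : Subgroup.closure {x : G | x ∈ D ∧ Commute d x} ≤ Subgroup.centralizer ({d} : Set G) :=
        (Subgroup.closure_le _).2 fun x hx => Subgroup.mem_centralizer_singleton_iff.2 hx.2.eq.symm
      have hcK : c ∈ K := hK ▸ Subgroup.subset_closure ⟨hc, hψc⟩
      exact hdc (Subgroup.mem_centralizer_singleton_iff.1 (hle (h ▸ hcK))).symm
    · intro x _
      have hle : K ≤ MonoidHom.eqLocus ψ.toMonoidHom (MonoidHom.id G) :=
        hK ▸ (Subgroup.closure_le _).2 fun y hy => hy.2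
      exact hle (h ▸ Subgroup.mem_top x)
  push Not at hex
  refine Or.inr (hext _ fun c hc => ?_)
  show ψ c = d * c * d⁻¹
  by_cases hdc : Commute d c
  · rw [hfix' c hc hdc, hdc.eq, mul_inv_cancel_right]
  have hψdc : ¬ Commute d (ψ c) := fun h => hdc (by
    have := h.map ψ.symm.toMonoidHom
    simp only [MulEquiv.coe_toMonoidHom, MulEquiv.symm_apply_apply] at this
    rwa [show ψ.symm d = d from (MulEquiv.symm_apply_eq ψ).2 hψd.symm] at this)
  rcases htr d hd c hc hdc (ψ c) (hψ c hc) hψdc (fun s hs => by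
      have h := hs.2.map ψ.toMonoidHom
      simp only [MulEquiv.coe_toMonoidHom] at h
      rwa [hfix s hs.1] at h) with h | h
  · exact absurd h (hex c hc hdc)
  · rw [h, cj_conj hD hd]

/-- What centralizes a member and its neighbours is `1` or that member. -/
theorem eq_or_eq_of_trace (hF : IsFischer D) (hprim : Cfsg.IsPrimitiveUnderConj D) (htr : TraceUnique D)
    (hZ : Subgroup.center G = ⊥) {d : G} (hd : d ∈ D) {z : G} (hzd : Commute z d)
    (hz : ∀ y ∈ perp D d, Commute z y) : z = 1 ∨ z = d := by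
  have key : ∀ w : G, MulAut.conj w = 1 → w = 1 := fun w hw => by
    rw [← Subgroup.mem_bot, ← hZ, Subgroup.mem_center_iff]
    intro x
    have h := DFunLike.congr_fun hw x
    simp only [MulAut.conj_apply, MulAut.one_apply] at h
    exact (mul_inv_eq_iff_eq_mul.1 h).symm
  rcases aut_eq_one_or_conj hF hprim htr hd (MulAut.conj z) (fun x hx => hF.toTrans.conj z x hx)
    (by rw [MulAut.conj_apply, hzd.eq, mul_inv_cancel_right])
    (fun y hy => by rw [MulAut.conj_apply, (hz y hy).eq, mul_inv_cancel_right]) with h | h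
  · exact Or.inl (key z h)
  · exact Or.inr (mul_inv_eq_one.1 (key (z * d⁻¹) (by rw [map_mul, h, ← map_mul, mul_inv_cancel, map_one])))

end Cfsg.Lib.Fischer.Relations
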