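import Cfsg.Agent.Lib.Fischer.Relations.Twenty.Image
import Cfsg.Agent.Lib.Fischer.Relations.Twenty.Trace
import Cfsg.Agent.Lib.Fischer.Relations.Centralizer.Order
import Cfsg.Agent.Lib.ZStar.Basic

/-!
# The data of a class of type M(23)
-/

set_option autoImplicit false
set_option linter.unusedSectionVars false

namespace Cfsg.Lib.Fischer.Relations

open Cfsg Cfsg.Lib.Fischer Cfsg.Lib.Linear.Herm

variable {G : Type*} [Group G] [Finite G] {D : Set G}

/-- A class of type M(23) at one of its members, with the primitive image of the neighbourhood. -/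
structure M23Data (D : Set G) (d : G) : Prop where
  fis : IsFischer D
  prim : Cfsg.IsPrimitiveUnderConj D
  cen : Subgroup.center G = ⊥
  sep : ∀ a ∈ D, ∀ b ∈ D, (∀ e ∈ D, Commute a e ↔ Commute b e) → a = b
  mem : d ∈ D
  imgTrans : Trans (image (perp D d))
  imgPrim : Cfsg.IsPrimitiveUnderConj (image (perp D d))
  imgFis : IsFischer (image (perp D d))
  img : Cfsg.IsOfTypeM22 _ (image (perp D d))
  refl : ∃ c ∈ D, ¬ Commute d c ∧ ∃ c₃ : ZMod 3, c₃ ≠ 0 ∧ Cfsg.IsProjReflectionGroupModThree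
    (↥(Subgroup.closure (common D d c)) ⧸ Subgroup.center ↥(Subgroup.closure (common D d c))) 7 (-c₃) c₃
  trace : TraceUnique D
  imgTrace : TraceUnique (image (perp D d))

theorem five_dvd_refl_seven {X : Type*} [Group X] [Finite X] {μ c : ZMod 3} (hc : c ≠ 0)
    (h : Cfsg.IsProjReflectionGroupModThree X 7 μ c)
    (h5 : ∀ Q : QuadraticForm (ZMod 3) (Fin 7 → ZMod 3), (QuadraticMap.polarBilin Q).Nondegenerate →
      5 ∣ Nat.card (↥(Cfsg.reflectionSubgroup (⇑Q) c) ⧸ Subgroup.center ↥(Cfsg.reflectionSubgroup (⇑Q) c))) :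
    5 ∣ Nat.card X := by
  obtain ⟨Q, hQ, -, ⟨e⟩⟩ := h
  rw [Nat.card_congr e.toEquiv]
  exact h5 Q hQ

theorem m23_data (hT : Trans D) (hprim : Cfsg.IsPrimitiveUnderConj D) (h23 : Cfsg.IsOfTypeM23 G D)
    (h5 : ∀ (c : ZMod 3), c ≠ 0 → ∀ Q : QuadraticForm (ZMod 3) (Fin 7 → ZMod 3),
      (QuadraticMap.polarBilin Q).Nondegenerate →
      5 ∣ Nat.card (↥(Cfsg.reflectionSubgroup (⇑Q) c) ⧸ Subgroup.center ↥(Cfsg.reflectionSubgroup (⇑Q) c))) :
    ∃ d, M23Data D d := by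
  classical
  obtain ⟨hZ, d, hd, c, hc, hdc, h22, c₃, hc₃, hL⟩ := h23
  replace h22 : Cfsg.IsOfTypeM22 _ (image (perp D d)) := h22
  have hset : ({y : G | y ∈ D ∧ y ≠ d ∧ Commute d y} ∩ {y : G | y ∈ D ∧ y ≠ c ∧ Commute c y}) = common D d c := by
    ext y
    exact ⟨fun h => ⟨h.1, h.2.2.2⟩, fun h => ⟨h.1, h.1.1, fun e => hdc (e ▸ h.1.2.2), h.2⟩⟩
  have key : ∀ S : Set G, S = _ → Cfsg.IsProjReflectionGroupModThree
      (↥(Subgroup.closure S) ⧸ Subgroup.center ↥(Subgroup.closure S)) 7 (-c₃) c₃ := fun S h => h ▸ hL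
  replace hL := key _ hset.symm
  obtain ⟨hZE, e, he, c', hc', hec, ⟨F, _, _, hF, ⟨iso⟩⟩, -⟩ := id h22
  have hF' : Fintype.card F = 2 ^ 2 := hF
  obtain ⟨f, hf⟩ := perp_nonempty_of_psu (D := image (perp D d)) hF' iso
  obtain ⟨a, ha, rfl⟩ := exists_bar he
  obtain ⟨b, hb, rfl⟩ := exists_bar hf.1
  have hw : ∃ x ∈ D, ∃ y ∈ D, x ≠ y ∧ Commute x y := ⟨d, hd, a, ha.1, Ne.symm ha.2.1, ha.2.2⟩
  have hFD := isFischer_of_primitive hT hprim hw hZ
  have hsep := sep_of_core hT hprim.2.1 (core_le_center_of_primitive hT hprim hw).1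
  have hnc : ∀ x ∈ perp D d, ∃ z ∈ perp D d, ¬ Commute x z := fun x hx => exists_perp_noncommute hT hsep hd hx
  have hgrp := image_group hT (S := perp D d) (fun _ h => h.1) (fun x hx s hs =>
    ((conj_mem_perp hT hd (Subgroup.closure_mono (Set.subset_insert _ _) hx)).2 s hs).1) hnc
  have hsepE := sep_m22 hgrp h22
  have hw' : ∃ x ∈ perp D d, ∃ y ∈ perp D d, x ≠ y ∧ Commute x y :=
    ⟨a, ha, b, hb, fun e => hf.2.1 (by subst e; rfl), (bar_commute hT (fun _ h => h.1) ha hb).1 hf.2.2⟩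
  have hL5 : 5 ∣ Nat.card ↥(Subgroup.closure (common D d c)) :=
    (five_dvd_refl_seven hc₃ hL (h5 c₃ hc₃)).trans (Subgroup.card_quotient_dvd_card _)
  have h3 : Cfsg.pCore 3 ↥(Subgroup.closure (perp D d)) ≤ Subgroup.center ↥(Subgroup.closure (perp D d)) := by
    haveI : Fact (Nat.Prime 3) := ⟨Nat.prime_three⟩
    by_contra h
    obtain ⟨iso5⟩ := Cfsg.Agent.S1615.result hFD.sol hFD.perf
      (⟨hT.set, ⟨d, hd, Set.ext fun x => ⟨fun hx => isConj_iff.2 (hT.trans d hd x hx),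
        fun hx => by obtain ⟨g, rfl⟩ := isConj_iff.1 hx; exact hT.conj g d hd⟩⟩, hT.gen⟩ :
        Cfsg.IsThreeTranspositionClass D) d hd fun hodd => h
        ((Lib.ZStar.le_oddCore inferInstance (by
          obtain ⟨k, hk⟩ := (Lib.Core.pCore_isPGroup 3 ↥(Subgroup.closure (perp D d))).exists_card_eq
          rw [hk]
          exact Odd.pow (by decide))).trans hodd)
    have hG : Nat.card G = 120 := by
      rw [Nat.card_congr iso5.toEquiv, Nat.card_perm, Nat.card_fin]; rfl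
    have hdvd : Nat.card (Cfsg.PSU 6 F 2) ∣ Nat.card G :=
      (Nat.card_congr iso.toEquiv ▸ Subgroup.card_quotient_dvd_card _).trans
        ((Subgroup.card_subgroup_dvd_card _).trans ((Subgroup.card_quotient_dvd_card _).trans
          (Subgroup.card_subgroup_dvd_card _)))
    rw [card_psu_six hF', hG] at hdvd
    exact absurd (Nat.le_of_dvd (by norm_num) hdvd) (by norm_num)
  obtain ⟨hTI, hPI, hFI⟩ := primitive_image hFD hsep hd
    (fun x hx y hy hxy => exists_common_perp hFD hd hc hdc hL5 hd hx hy hxy) hZE hsepE hw' h3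
  obtain ⟨-, -, F', _, _, hF'', hU⟩ := m22_setup hTI hPI h22
  have htr := traceUnique_m22 hFI hU
  exact ⟨d, ⟨hFD, hprim, hZ, hsep, hd, hTI, hPI, hFI, h22, ⟨c, hc, hdc, c₃, hc₃, hL⟩,
    htr.lift hFD hsep hd, htr⟩⟩

end Cfsg.Lib.Fischer.Relations
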