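import Cfsg.Agent.Lib.Fischer.Relations.Twenty.Cent

/-!
# Simplicity in type M(23)

A member is a product of six of its neighbours, so it lies in the derived group of its neighbourhood group;
both that group and the whole group are then perfect.
-/

set_option autoImplicit false
set_option linter.unusedSectionVars false

namespace Cfsg.Lib.Fischer.Relations

open Cfsg Cfsg.Lib.Fischer Cfsg.Lib.Linear.Herm Cfsg.Agent.S1631 Cfsg.Lib.Fischer.RadicalAbelian Cfsg.Lib.Linear

variable {G : Type*} [Group G] [Finite G] {D : Set G} {d : G}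

/-- A primitive group with trivial centre whose class lies in the derived group is simple. -/
theorem simple_of_perfect (hT : Trans D) (hprim : Cfsg.IsPrimitiveUnderConj D)
    (hw : ∃ a ∈ D, ∃ b ∈ D, a ≠ b ∧ Commute a b) (hZ : Subgroup.center G = ⊥)
    (hcom : ∀ x ∈ D, x ∈ commutator G) : IsSimpleGroup G := by
  obtain ⟨h2, h3⟩ := core_le_center_of_primitive hT hprim hw
  obtain ⟨L, hLn, hL, -, -⟩ := exists_quasisimple hT hprim.2.1 h2 h3
  haveI := hLn
  have htop : L = ⊤ := by
    rw [← commutator_eq hT hL (index_le_two_of_connected hT hL (connected_of_primitive hT hprim hw)),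
      eq_top_iff, ← hT.gen, Subgroup.closure_le]
    exact hcom
  haveI hLs := hL.2.2
  have hcb : Subgroup.center ↥L = ⊥ := by
    rw [eq_bot_iff]
    intro z hz
    rw [Subgroup.mem_bot]
    refine Subtype.ext ?_
    rw [Subgroup.coe_one, ← Subgroup.mem_bot, ← hZ, Subgroup.mem_center_iff]
    intro g
    exact congrArg Subtype.val (Subgroup.mem_center_iff.1 hz ⟨g, htop ▸ Subgroup.mem_top g⟩)
  exact MulEquiv.isSimpleGroup ((Subgroup.topEquiv.symm.trans (MulEquiv.subgroupCongr htop.symm)).trans
    ((QuotientGroup.quotientBot (G := ↥L)).symm.trans (QuotientGroup.quotientMulEquivOfEq hcb.symm)))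

/-- In type M(22) the members lie in the derived group. -/
theorem m22_mem_commutator (hF : IsFischer D) (hprim : Cfsg.IsPrimitiveUnderConj D)
    (h22 : Cfsg.IsOfTypeM22 G D) {x : G} (hx : x ∈ D) : x ∈ commutator G := by
  obtain ⟨hZ, hsep, F', _, _, hF', hU⟩ := m22_setup hF.toTrans hprim h22
  obtain ⟨h1, h2⟩ := perp_perfect hF hU hx hprim hZ hsep
  rw [commutator_def]
  rw [← h2] at h1
  exact Subgroup.commutator_mono le_top le_top h1

variable {F : Type} [Field F] [Fintype F] {hF : Fintype.card F = 2 ^ 2} {b : G}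

namespace Coord23

variable (C : Coord23 D d b hF)
include C

theorem mul_mem_commutator {x y : G} (hx : x ∈ perp D d) (hy : y ∈ perp D d) :
    x * y ∈ ⁅Subgroup.closure (perp D d), Subgroup.closure (perp D d)⁆ := by
  obtain ⟨g, hg, rfl⟩ := perp_transitive C.data.fis C.data.mem hx hy
  have := Subgroup.commutator_mem_commutator (Subgroup.subset_closure hx) hg
  rwa [commutatorElement_def, inv_eq C.data.trans hx.1, mul_assoc x g, mul_assoc x] at this

/-- The member is a product of six neighbours. -/
theorem mem_commutator : d ∈ ⁅Subgroup.closure (perp D d), Subgroup.closure (perp D d)⁆ := by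
  obtain ⟨m, M, hm⟩ := C.exists_lm
  obtain ⟨ω, hω⟩ := Linear.exists_omega (fourField hF) (hB_isSymm hF 6) (hB_nondegenerate hF 6)
  obtain ⟨-, hsurj⟩ := C.six_products hm hω
  obtain ⟨l, -, hl⟩ := hsurj d (Or.inl rfl)
  have h1 : ∀ y z : F, m 1 y z ∈ perp D d := fun y z => (hm 1 y z (Or.inl one_ne_zero)).choose
  have hu : m 0 1 0 ∈ perp D d := (hm 0 1 0 (Or.inr (Or.inl one_ne_zero))).choose
  have hv : m 0 0 1 ∈ perp D d := (hm 0 0 1 (Or.inr (Or.inr one_ne_zero))).choose
  refine (congrArg (· ∈ ⁅Subgroup.closure (perp D d), Subgroup.closure (perp D d)⁆) hl).mp ?_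
  have e : m 1 0 0 * (m 0 1 0 * m 0 0 1) * [m 1 1 l, m 1 ω (l * frob hF ω), m 1 (frob hF ω) (l * ω)].prod =
      (m 1 0 0 * m 0 1 0) * (m 0 0 1 * m 1 1 l) * (m 1 ω (l * frob hF ω) * m 1 (frob hF ω) (l * ω)) := by
    simp [mul_assoc]
  rw [e]
  exact mul_mem (mul_mem (C.mul_mem_commutator (h1 _ _) hu) (C.mul_mem_commutator hv (h1 _ _)))
    (C.mul_mem_commutator (h1 _ _) (h1 _ _))

theorem mem_closure : d ∈ Subgroup.closure (perp D d) :=
  (Subgroup.commutator_le.2 fun x hx y hy =>
    mul_mem (mul_mem (mul_mem hx hy) (inv_mem hx)) (inv_mem hy)) C.mem_commutator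

/-- The neighbourhood group is perfect. -/
theorem perfect :
    ⁅Subgroup.closure (perp D d), Subgroup.closure (perp D d)⁆ = Subgroup.closure (perp D d) := by
  obtain ⟨H, hH⟩ : ∃ H, H = Subgroup.closure (perp D d) := ⟨_, rfl⟩
  rw [← hH]
  have hle : ⁅H, H⁆ ≤ H := Subgroup.commutator_le.2 fun x hx y hy =>
    mul_mem (mul_mem (mul_mem hx hy) (inv_mem hx)) (inv_mem hy)
  refine le_antisymm hle ?_
  conv_lhs => rw [hH]
  rw [Subgroup.closure_le]
  intro x hx
  have hdC : d ∈ ⁅H, H⁆ := by rw [hH]; exact C.mem_commutator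
  have h := m22_mem_commutator C.data.imgFis C.data.imgPrim C.data.img (bar_mem hx)
  rw [commutator_def, ← Subgroup.map_top_of_surjective (QuotientGroup.mk' _) (QuotientGroup.mk'_surjective _),
    ← Subgroup.map_commutator] at h
  obtain ⟨k, hk, ek⟩ := h
  have hk' : (k : G) ∈ ⁅H, H⁆ := by
    have := Subgroup.mem_map_of_mem (Subgroup.closure (perp D d)).subtype hk
    rw [Subgroup.map_commutator, ← MonoidHom.range_eq_map, Subgroup.range_subtype] at this
    rwa [hH]
  rcases C.data.eq_of_mk (y := x) k.2 (Subgroup.subset_closure hx) ek with e | e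
  · rw [e]; exact hk'
  · rw [e]; exact mul_mem hk' hdC

/-- The centre of the neighbourhood group. -/
theorem center_eq : Subgroup.center ↥(Subgroup.closure (perp D d)) =
    (Subgroup.zpowers d).subgroupOf (Subgroup.closure (perp D d)) := by
  ext z
  rw [Subgroup.mem_center_iff, Subgroup.mem_subgroupOf]
  constructor
  · intro h
    rcases eq_or_eq_of_trace C.data.fis C.data.prim C.data.trace C.data.cen C.data.mem (z := (z : G))
      (C.data.commute_of_mem z.2)
      (fun y hy => (congrArg Subtype.val (h ⟨y, Subgroup.subset_closure hy⟩)).symm) with h' | h'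
    · rw [h']; exact one_mem _
    · rw [h']; exact Subgroup.mem_zpowers d
  · rintro ⟨k, hk⟩ y
    refine Subtype.ext ?_
    show (y : G) * (z : G) = z * y
    rw [← hk]
    exact ((C.data.commute_of_mem y.2).zpow_right k).eq

/-- The neighbourhood group is quasisimple. -/
theorem quasisimple : Cfsg.IsQuasisimple ↥(Subgroup.closure (perp D d)) := by
  refine ⟨Subgroup.isPerfect_iff.2 C.perfect, ?_⟩
  obtain ⟨a, ha, hne, hc⟩ := exists_perp C.data.imgFis C.co.mem
  exact simple_of_perfect C.data.imgTrans C.data.imgPrim ⟨_, C.co.mem, a, ha, hne.symm, hc⟩ C.co.cen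
    fun x hx => m22_mem_commutator C.data.imgFis C.data.imgPrim C.data.img hx

/-- The whole group is simple. -/
theorem simple : IsSimpleGroup G := by
  refine simple_of_perfect C.data.trans C.data.prim
    ⟨d, C.data.mem, b, C.bmem.1, C.bmem.2.1.symm, C.bmem.2.2⟩ C.data.cen fun x hx => ?_
  obtain ⟨g, rfl⟩ := C.data.trans.trans d C.data.mem x hx
  refine (inferInstance : (commutator G).Normal).conj_mem d ?_ g
  rw [commutator_def]
  exact Subgroup.commutator_mono le_top le_top C.mem_commutator

end Coord23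

end Cfsg.Lib.Fischer.Relations
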